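import Cfsg.Agent.H57.TensorTwo.Roots

/-!
An element fixing `(1,0) ⊗ X` is decomposable; conjugates of reflections fix every `F² ⊗ k` for the anisotropic
`k` with `(1,0) ⊗ k` fixed.
-/

set_option autoImplicit false

namespace Cfsg.Agent.H57.TensorTwo

open Module

variable {F X : Type*} [Field F] [AddCommGroup X] [Module F X] [Fintype F]

namespace Symm

variable {S : Symm F X} {M : Subgroup ((X × X) ≃ₗ[F] (X × X))}

/-- No non-scalar radical element. -/
def Small (hM : S.Over M) : Prop := ∀ A ∈ hM.radical, ∃ c : F, A = c • LinearMap.id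

/-- An element fixing `(1,0) ⊗ X`. -/
theorem fix_line (hM : S.Over M) (hS : Small hM) {g : (X × X) ≃ₗ[F] (X × X)} (hg : g ∈ M)
    (hfix : ∀ x, (g (x, 0)).2 = 0) :
    ∃ (A : X ≃ₗ[F] X) (c s : F), c ≠ 0 ∧ (∀ u v, S.β (A u) (A v) = c * S.β u v) ∧
      ∀ x y, g (x, y) = (A x + s • A y, c⁻¹ • A y) := by
  haveI := S.finite
  let A₀ : X →ₗ[F] X := LinearMap.fst F X X ∘ₗ g.toLinearMap ∘ₗ LinearMap.inl F X X
  let B : X →ₗ[F] X := LinearMap.fst F X X ∘ₗ g.toLinearMap ∘ₗ LinearMap.inr F X X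
  let D₀ : X →ₗ[F] X := LinearMap.snd F X X ∘ₗ g.toLinearMap ∘ₗ LinearMap.inr F X X
  have hA : ∀ x, g (x, 0) = (A₀ x, 0) := fun x => Prod.ext rfl (hfix x)
  have hsplit : ∀ x y, g (x, y) = (A₀ x + B y, D₀ y) := fun x y => by
    rw [show ((x, y) : X × X) = (x, 0) + (0, y) by simp, map_add, hA]
    exact Prod.ext rfl (zero_add _)
  have hAinj : Function.Injective A₀ := fun x y h => by
    have h1 : g (x, 0) = g (y, 0) := by rw [hA, hA, h]
    exact congrArg Prod.fst (g.injective h1)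
  have hiso := hM.iso g hg
  have hAD : ∀ x y, S.β (A₀ x) (D₀ y) = S.β x y := fun x y => by
    have h1 := hiso (x, 0) (0, y)
    simpa [hsplit, Symm.ω] using h1
  have hDinj : Function.Injective D₀ := fun x y h => sub_eq_zero.1 (S.nd _ fun w => by
    rw [S.symm, ← hAD w, map_sub, h, sub_self, map_zero])
  let A := LinearEquiv.ofInjectiveEndo A₀ hAinj
  let D := LinearEquiv.ofInjectiveEndo D₀ hDinj
  have hA' : ∀ x, A x = A₀ x := fun x => rfl
  have hD' : ∀ x, D x = D₀ x := fun x => rfl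
  -- conjugate of the scalar radical
  have hmem : A.toLinearMap ∘ₗ D.symm.toLinearMap ∈ hM.radical := by
    rw [hM.mem_radical]
    convert M.mul_mem (M.mul_mem hg (hM.upper_one 1)) (M.inv_mem hg) using 1
    refine LinearEquiv.ext fun p => ?_
    obtain ⟨⟨x, y⟩, rfl⟩ := g.surjective p
    show upper _ (g (x, y)) = g (upper _ (g.symm (g (x, y))))
    rw [LinearEquiv.symm_apply_apply, upper_apply, hsplit, hsplit, upper_apply]
    simp only [one_smul, LinearMap.id_apply, LinearMap.comp_apply, LinearEquiv.coe_coe, map_add]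
    rw [← hD', LinearEquiv.symm_apply_apply, hA']
    exact Prod.ext (by abel) rfl
  obtain ⟨c, hc⟩ := hS _ hmem
  have hcD : ∀ y, A y = c • D y := fun y => by
    have := LinearMap.congr_fun hc (D y)
    simpa using this
  obtain ⟨x₀, hx₀⟩ := S.exists_aniso
  have hc0 : c ≠ 0 := fun h => hx₀ (by
    rw [← hAD x₀ x₀, ← hA', hcD, h, zero_smul]; simp)
  have hsim : ∀ u v, S.β (A u) (A v) = c * S.β u v := fun u v => by
    rw [hcD v, map_smul, smul_eq_mul, hA', hD', hAD]
  have hDA : ∀ y, D₀ y = c⁻¹ • A y := fun y => by rw [hcD, smul_smul, inv_mul_cancel₀ hc0, one_smul, hD']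
  let h : (X × X) ≃ₗ[F] (X × X) := A.prodCongr (A.trans (LinearEquiv.smulOfUnit (Units.mk0 c⁻¹ (inv_ne_zero hc0))))
  have hh : ∀ x y, h (x, y) = (A x, c⁻¹ • A y) := fun x y => rfl
  have hhiso : S.IsIso h := by
    rintro ⟨x, y⟩ ⟨x', y'⟩
    simp only [hh, Symm.ω, map_smul, LinearMap.smul_apply, smul_eq_mul, hsim]
    field_simp
  have hhM : h ∈ M := hM.dec h hhiso ⟨1, 0, 0, c⁻¹, A.toLinearMap, fun x y => by simp [hh]⟩
  have hrad : A.symm.toLinearMap ∘ₗ B ∈ hM.radical := by
    rw [hM.mem_radical]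
    convert M.mul_mem (M.inv_mem hhM) hg using 1
    refine LinearEquiv.ext fun p => ?_
    obtain ⟨x, y⟩ := p
    show _ = h.symm (g (x, y))
    rw [eq_comm, LinearEquiv.symm_apply_eq, upper_apply, hsplit, hh, hDA]
    simp [map_add, ← hA']
  obtain ⟨s, hs⟩ := hS _ hrad
  refine ⟨A, c, s, hc0, hsim, fun x y => ?_⟩
  have hB : B y = s • A y := by
    have := congrArg A (LinearMap.congr_fun hs y)
    simpa using this
  rw [hsplit, hB, hDA, ← hA']

variable (S)

/-- The conjugate `g (1 ⊗ refl x) g⁻¹`. -/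
noncomputable def inv' (g : (X × X) ≃ₗ[F] (X × X)) (x : X) (hx : S.β x x ≠ 0) : (X × X) ≃ₗ[F] (X × X) :=
  g * diag (S.refl x hx) * g⁻¹

theorem inv'_apply (g : (X × X) ≃ₗ[F] (X × X)) (x : X) (hx : S.β x x ≠ 0) (p : X × X) :
    S.inv' g x hx p = p - (2 / S.β x x * S.β (g.symm p).1 x) • g (x, 0) -
      (2 / S.β x x * S.β (g.symm p).2 x) • g (0, x) := by
  show g (diag (S.refl x hx) (g.symm p)) = _
  conv_rhs => arg 1; arg 1; rw [← g.apply_symm_apply p]
  rw [← map_smul, ← map_smul, ← map_sub, ← map_sub]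
  congr 1
  simp [diag, S.refl_apply, Prod.ext_iff]

theorem inv'_invol (g : (X × X) ≃ₗ[F] (X × X)) (x : X) (hx : S.β x x ≠ 0) (p : X × X) :
    S.inv' g x hx (S.inv' g x hx p) = p := by
  show g (diag (S.refl x hx) (g.symm (g (diag (S.refl x hx) (g.symm p))))) = p
  rw [LinearEquiv.symm_apply_apply]
  simp [diag, S.refl_refl]

variable {S}

theorem Over.inv'_mem (hM : S.Over M) {g : (X × X) ≃ₗ[F] (X × X)} (hg : g ∈ M) (x : X) (hx : S.β x x ≠ 0) :
    S.inv' g x hx ∈ M :=
  M.mul_mem (M.mul_mem hg (hM.diag_mem (S.refl_iso x hx))) (M.inv_mem hg)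

/-- If `(k, 0)` is fixed, so is `(0, k)`. -/
theorem fixed_other (hM : S.Over M) (hS : Small hM) {g : (X × X) ≃ₗ[F] (X × X)} (hg : g ∈ M) {x : X}
    (hx : S.β x x ≠ 0) {k : X} (hk : S.β k k ≠ 0) (hfix : S.inv' g x hx (k, 0) = (k, 0)) :
    S.inv' g x hx (0, k) = (0, k) := by
  set z := S.inv' g x hx with hz
  have hzM : z ∈ M := hM.inv'_mem hg x hx
  have hzz : ∀ p, z (z p) = p := S.inv'_invol g x hx
  have hzsymm : ∀ p, z.symm p = z p := fun p => by rw [LinearEquiv.symm_apply_eq, hzz]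
  have hzi := hM.iso z hzM
  set w := S.inv' z k hk with hw
  have hwM : w ∈ M := hM.inv'_mem hzM k hk
  have hsnd : ∀ y, S.β (z (y, 0)).2 k = 0 := fun y => by
    have h1 := hzi (y, 0) (k, 0)
    rw [hfix] at h1
    simpa [Symm.ω] using h1
  set φ : X → F := fun y => 2 / S.β k k * S.β (z (y, 0)).1 k with hφ
  have hwU : ∀ y, w (y, 0) = (y - φ y • k, 0) := fun y => by
    rw [hw, S.inv'_apply, hzsymm, hsnd, mul_zero, zero_smul, sub_zero, hfix]
    exact Prod.ext rfl (by simp)
  obtain ⟨A, c, s, hc0, hsim, hA⟩ := fix_line hM hS hwM fun y => by rw [hwU]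
  have hAφ : ∀ y, A y = y - φ y • k := fun y => by
    have := congrArg Prod.fst (hA y 0)
    rw [hwU] at this
    simpa using this.symm
  have hAk : A k = -k := by
    rw [hAφ, hφ]
    simp only [hfix]
    rw [div_mul_cancel₀ _ hk]; module
  have hc1 : c = 1 := by
    have := hsim k k
    rw [hAk] at this
    simp only [map_neg, LinearMap.neg_apply, neg_neg] at this
    exact (mul_eq_right₀ hk).1 this.symm
  subst hc1
  have hφk : ∀ y, φ y = 2 / S.β k k * S.β y k := fun y => by
    have h1 := hsim y k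
    rw [hAk, hAφ, one_mul] at h1
    simp only [map_sub, map_smul, map_neg, LinearMap.sub_apply, LinearMap.smul_apply, smul_eq_mul] at h1
    field_simp
    linear_combination h1
  have hAr : ∀ y, A y = S.refl k hk y := fun y => by rw [hAφ, hφk, S.refl_apply]
  -- the radical part vanishes
  have hww := S.inv'_invol z k hk (0, k)
  rw [← hw] at hww
  rw [hA, hA] at hww
  have hs0 : s = 0 := by
    have h1 := congrArg Prod.fst hww
    simp only [map_zero, zero_add, inv_one, one_smul, map_smul, hAk, smul_neg, neg_neg, map_neg] at h1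
    have h2 := congrArg (S.β · k) h1
    simp only [map_add, map_neg, map_smul, LinearMap.add_apply, LinearMap.neg_apply, LinearMap.smul_apply,
      smul_eq_mul, map_zero, LinearMap.zero_apply] at h2
    exact (mul_eq_zero.1 (show s * S.β k k = 0 from (mul_eq_zero.1 (show (2 : F) * (s * S.β k k) = 0 by
      linear_combination h2)).resolve_left S.two)).resolve_right hk
  subst hs0
  have hwd : ∀ p, w p = diag (S.refl k hk) p := fun p => by
    obtain ⟨a, b⟩ := p
    rw [hA, zero_smul, add_zero, inv_one, one_smul, hAr, hAr]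
    rfl
  -- so `z` commutes with the reflection
  have hm : diag (S.refl k hk) (z (0, k)) = -z (0, k) := by
    rw [← hwd]
    show z (diag (S.refl k hk) (z.symm (z (0, k)))) = _
    rw [LinearEquiv.symm_apply_apply, ← map_neg]
    simp [diag, S.refl_self hk]
  have hline : ∀ v : X, S.refl k hk v = -v → ∃ t : F, v = t • k := fun v hv => by
    refine ⟨S.β v k / S.β k k, ?_⟩
    rw [S.refl_apply] at hv
    have h1 : (2 : F) • v = (2 : F) • ((S.β v k / S.β k k) • k) := by
      rw [smul_smul, show (2 : F) * (S.β v k / S.β k k) = 2 / S.β k k * S.β v k by ring]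
      linear_combination (norm := module) hv
    exact smul_right_injective X S.two h1
  obtain ⟨α, hα⟩ := hline (z (0, k)).1 (by simpa [diag] using congrArg Prod.fst hm)
  obtain ⟨γ, hγ⟩ := hline (z (0, k)).2 (by simpa [diag] using congrArg Prod.snd hm)
  have hz0 : z (0, k) = (α • k, γ • k) := Prod.ext hα hγ
  have hγ1 : γ = 1 := by
    have h1 := hzi (k, 0) (0, k)
    rw [hfix, hz0] at h1
    simp [Symm.ω] at h1
    exact (mul_eq_right₀ hk).1 h1
  subst hγ1
  have hα0 : α = 0 := by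
    have h1 := hzz (0, k)
    rw [hz0, show ((α • k, (1 : F) • k) : X × X) = α • (k, 0) + (0, k) by simp, map_add, map_smul, hfix, hz0] at h1
    have h2 := congrArg (fun p : X × X => S.β p.1 k) h1
    simp only [Prod.smul_fst, Prod.fst_add, map_add, map_smul, LinearMap.add_apply, LinearMap.smul_apply,
      smul_eq_mul, map_zero, LinearMap.zero_apply] at h2
    exact (mul_eq_zero.1 (show α * S.β k k = 0 from (mul_eq_zero.1 (show (2 : F) * (α * S.β k k) = 0 by
      linear_combination h2)).resolve_left S.two)).resolve_right hk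
  rw [hz0, hα0, zero_smul, one_smul]

/-- The vectors `k` with `F² ⊗ k` fixed. -/
noncomputable def fixSpace (S : Symm F X) (g : (X × X) ≃ₗ[F] (X × X)) (x : X) (hx : S.β x x ≠ 0) :
    Submodule F X :=
  Submodule.comap (LinearMap.inl F X X) (LinearMap.ker ((S.inv' g x hx).toLinearMap - LinearMap.id)) ⊓
    Submodule.comap (LinearMap.inr F X X) (LinearMap.ker ((S.inv' g x hx).toLinearMap - LinearMap.id))

theorem mem_fixSpace {g : (X × X) ≃ₗ[F] (X × X)} {x : X} {hx : S.β x x ≠ 0} {k : X} :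
    k ∈ fixSpace S g x hx ↔ S.inv' g x hx (k, 0) = (k, 0) ∧ S.inv' g x hx (0, k) = (0, k) := by
  simp [fixSpace, sub_eq_zero]

/-- `F² ⊗ k` is fixed for a space of codimension at most two. -/
theorem finrank_fixSpace (hM : S.Over M) (hS : Small hM) {g : (X × X) ≃ₗ[F] (X × X)} (hg : g ∈ M) {x : X}
    (hx : S.β x x ≠ 0) : finrank F X ≤ finrank F (fixSpace S g x hx) + 2 := by
  haveI := S.finite
  let L : X →ₗ[F] F × F := ((S.β.flip x) ∘ₗ LinearMap.fst F X X ∘ₗ g.symm.toLinearMap ∘ₗ LinearMap.inl F X X).prod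
    ((S.β.flip x) ∘ₗ LinearMap.snd F X X ∘ₗ g.symm.toLinearMap ∘ₗ LinearMap.inl F X X)
  have h1 := LinearMap.finrank_range_add_finrank_ker L
  have h2 := Submodule.finrank_le (LinearMap.range L)
  rw [finrank_prod, finrank_self] at h2
  have hK : ∀ k ∈ LinearMap.ker L, S.inv' g x hx (k, 0) = (k, 0) := fun k hk => by
    have e1 : S.β (g.symm (k, 0)).1 x = 0 := congrArg Prod.fst (LinearMap.mem_ker.1 hk)
    have e2 : S.β (g.symm (k, 0)).2 x = 0 := congrArg Prod.snd (LinearMap.mem_ker.1 hk)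
    rw [S.inv'_apply, e1, e2, mul_zero, zero_smul, zero_smul, sub_zero, sub_zero]
  obtain ⟨k, hk, hkk⟩ := S.aniso (LinearMap.ker L) (by omega)
  have hle : LinearMap.ker L ≤ fixSpace S g x hx := S.mem_of_aniso hk hkk fun v hv hvv =>
    mem_fixSpace.2 ⟨hK v hv, fixed_other hM hS hg hx hvv (hK v hv)⟩
  have h3 := Submodule.finrank_mono hle
  omega

/-- The image of `F² ⊗ x` is orthogonal to all fixed `F² ⊗ k`. -/
theorem image_perp (hM : S.Over M) {g : (X × X) ≃ₗ[F] (X × X)} (hg : g ∈ M) {x : X} (hx : S.β x x ≠ 0) {k : X}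
    (hk : k ∈ fixSpace S g x hx) (a b : F) :
    S.β (g (a • x, b • x)).1 k = 0 ∧ S.β (g (a • x, b • x)).2 k = 0 := by
  obtain ⟨h1, h2⟩ := mem_fixSpace.1 hk
  have hi := hM.iso _ (hM.inv'_mem hg x hx)
  have hneg : S.inv' g x hx (g (a • x, b • x)) = -g (a • x, b • x) := by
    show g (diag (S.refl x hx) (g.symm (g (a • x, b • x)))) = _
    rw [LinearEquiv.symm_apply_apply, ← map_neg]
    simp [diag, S.refl_self hx]
  have key : ∀ q, S.inv' g x hx q = q → S.ω (g (a • x, b • x)) q = 0 := fun q hq => by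
    have h3 := hi (g (a • x, b • x)) q
    rw [hneg, hq] at h3
    simp only [Symm.ω, Prod.fst_neg, Prod.snd_neg, map_neg, LinearMap.neg_apply] at h3 ⊢
    exact (mul_eq_zero.1 (show (2 : F) * _ = 0 by linear_combination -h3)).resolve_left S.two
  constructor
  · have h3 := key _ h2
    simpa [Symm.ω] using h3
  · have h3 := key _ h1
    simpa [Symm.ω] using h3

end Symm

end Cfsg.Agent.H57.TensorTwo
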