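import Cfsg.Agent.H57.TensorTwo.Blocks

/-!
An overgroup of `Sp₂ ⊗ O(X)`, `dim X ≥ 4`, in the symplectic group respects the decomposition or contains every
transvection.
-/

set_option autoImplicit false

namespace Cfsg.Agent.H57.TensorTwo

open Module

variable {F X : Type*} [Field F] [AddCommGroup X] [Module F X] [Fintype F]

namespace Symm

variable {S : Symm F X} {M : Subgroup ((X × X) ≃ₗ[F] (X × X))}

omit [Fintype F] in
/-- Three independent vectors orthogonal to a fixed space of codimension two. -/
theorem false_of_indep [FiniteDimensional F X] {K₂ : Submodule F X} (hK : finrank F X ≤ finrank F K₂ + 2)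
    {v : Fin 3 → X} (hv : LinearIndependent F v) (h : ∀ k ∈ K₂, ∀ i, S.β (v i) k = 0) : False := by
  have hW : finrank F (Submodule.span F (Set.range v)) = 3 := by
    rw [finrank_span_eq_card hv, Fintype.card_fin]
  let Λ : K₂ →ₗ[F] (Submodule.span F (Set.range v)).dualAnnihilator :=
    { toFun := fun k => ⟨S.β k, (Submodule.mem_dualAnnihilator _).2 fun w hw => by
        induction hw using Submodule.span_induction with
        | mem _ hx => obtain ⟨i, rfl⟩ := hx; rw [S.symm]; exact h k k.2 i
        | zero => exact map_zero _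
        | add a b _ _ ha hb => rw [map_add, ha, hb, add_zero]
        | smul c a _ ha => rw [map_smul, ha, smul_zero]⟩
      map_add' := fun a b => Subtype.ext (map_add S.β (a : X) b)
      map_smul' := fun c a => Subtype.ext (map_smul S.β c (a : X)) }
  have hinj : Function.Injective Λ := (injective_iff_map_eq_zero Λ).2 fun k hk =>
    Subtype.ext (S.nd _ fun y => LinearMap.congr_fun (congrArg Subtype.val hk) y)
  have h1 := LinearMap.finrank_le_finrank_of_injective hinj
  have h2 := Subspace.finrank_add_finrank_dualAnnihilator_eq (Submodule.span F (Set.range v))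
  omega

omit [Fintype F] in
/-- A three-dimensional space meeting a fixed space of codimension two trivially. -/
theorem false_of_tests [FiniteDimensional F X] {K₂ : Submodule F X} (hK : finrank F X ≤ finrank F K₂ + 2)
    {v : Fin 3 → X} (h : ∀ a : Fin 3 → F, ∑ i, a i • v i ∈ K₂ → a = 0) : False := by
  have hv : LinearIndependent F v := Fintype.linearIndependent_iff.2 fun a ha i =>
    congrFun (h a (by rw [ha]; exact K₂.zero_mem)) i
  have hW : finrank F (Submodule.span F (Set.range v)) = 3 := by
    rw [finrank_span_eq_card hv, Fintype.card_fin]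
  have hinf : K₂ ⊓ Submodule.span F (Set.range v) = ⊥ := by
    rw [Submodule.eq_bot_iff]
    rintro w ⟨hwK, hw⟩
    obtain ⟨a, rfl⟩ := (Submodule.mem_span_range_iff_exists_fun F).1 hw
    simp [h a hwK]
  have h1 := Submodule.finrank_sup_add_finrank_inf_eq K₂ (Submodule.span F (Set.range v))
  rw [hinf, finrank_bot, hW] at h1
  have h2 := Submodule.finrank_le (K₂ ⊔ Submodule.span F (Set.range v))
  omega

omit [Fintype F] in
/-- A conjugate of a traceless matrix independent of it. -/
theorem exists_twist (h2 : (2 : F) ≠ 0) {c₀ c₁ c₂ : F} (hc : c₀ ≠ 0 ∨ c₁ ≠ 0 ∨ c₂ ≠ 0) :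
    ∃ a b c d : F, ∃ _ : a * d - b * c = 1, ∃ c₀' c₁' c₂' : F,
      a * c₀ + b * c₂ = c₀' * a + c₁' * c ∧ a * c₁ - b * c₀ = c₀' * b + c₁' * d ∧
      c * c₀ + d * c₂ = c₂' * a - c₀' * c ∧ c * c₁ - d * c₀ = c₂' * b - c₀' * d ∧
      ∀ U V' V W : F, U + c₀' * V' + c₀ * V + (c₀ * c₀' + c₁ * c₂') * W = 0 →
        c₁' * V' + c₁ * V + (c₀ * c₁' - c₁ * c₀') * W = 0 →
        c₂' * V' + c₂ * V + (c₂ * c₀' - c₀ * c₂') * W = 0 →
        U - c₀' * V' - c₀ * V + (c₂ * c₁' + c₀ * c₀') * W = 0 →
        (W = 0 ∨ V = -V') → U = 0 ∧ V' = 0 ∧ V = 0 ∧ W = 0 := by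
  by_cases hb : c₂ = 0
  · by_cases hb' : c₁ = 0
    · subst hb; subst hb'
      have h0 : c₀ ≠ 0 := by simpa using hc
      refine ⟨1, 1, 1, 2, by ring, 3 * c₀, -2 * c₀, 4 * c₀, by ring, by ring, by ring, by ring,
        fun U V' V W f11 f12 f21 f22 h => ?_⟩
      have hW : W = 0 := by
        rcases h with h | h
        · exact h
        · subst h
          have g1 : 2 * c₀ ^ 2 * W + 2 * c₀ * V' = 0 := by linear_combination -f12
          have g2 : 4 * c₀ * V' = 0 := by linear_combination f11 - f22
          have g2' : V' = 0 := by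
            have : (2 * 2 * c₀) * V' = 0 := by linear_combination g2
            exact (mul_eq_zero.1 this).resolve_left (mul_ne_zero (mul_ne_zero h2 h2) h0)
          subst g2'
          exact (mul_eq_zero.1 (show 2 * c₀ ^ 2 * W = 0 by linear_combination g1)).resolve_left
            (mul_ne_zero h2 (pow_ne_zero _ h0))
      subst hW
      have hV' : V' = 0 :=
        (mul_eq_zero.1 (show (2 * c₀) * V' = 0 by linear_combination -f12)).resolve_left (mul_ne_zero h2 h0)
      subst hV'
      have hV : V = 0 :=
        (mul_eq_zero.1 (show (2 * c₀) * V = 0 by linear_combination f11 - f22)).resolve_left (mul_ne_zero h2 h0)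
      subst hV
      exact ⟨by linear_combination f11, rfl, rfl, rfl⟩
    · subst hb
      refine ⟨1, 0, 1, 1, by ring, c₀ - c₁, c₁, 2 * c₀ - c₁, by ring, by ring, by ring, by ring,
        fun U V' V W f11 f12 f21 f22 h => ?_⟩
      have hW : W = 0 := by
        rcases h with h | h
        · exact h
        · subst h
          exact (mul_eq_zero.1 (show c₁ ^ 2 * W = 0 by linear_combination f12)).resolve_left (pow_ne_zero _ hb')
      subst hW
      have hVV : V = -V' := by
        have := (mul_eq_zero.1 (show c₁ * (V' + V) = 0 by linear_combination f12)).resolve_left hb'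
        linear_combination this
      subst hVV
      have hV' : V' = 0 :=
        (mul_eq_zero.1 (show (2 * c₁) * V' = 0 by linear_combination f22 - f11)).resolve_left (mul_ne_zero h2 hb')
      subst hV'
      exact ⟨by linear_combination f11, rfl, by ring, rfl⟩
  · refine ⟨1, 1, 0, 1, by ring, c₀ + c₂, c₁ - 2 * c₀ - c₂, c₂, by ring, by ring, by ring, by ring,
      fun U V' V W f11 f12 f21 f22 h => ?_⟩
    have hW : W = 0 := by
      rcases h with h | h
      · exact h
      · subst h
        exact (mul_eq_zero.1 (show c₂ ^ 2 * W = 0 by linear_combination f21)).resolve_left (pow_ne_zero _ hb)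
    subst hW
    have hVV : V = -V' := by
      have := (mul_eq_zero.1 (show c₂ * (V' + V) = 0 by linear_combination f21)).resolve_left hb
      linear_combination this
    subst hVV
    have hV' : V' = 0 :=
      (mul_eq_zero.1 (show (2 * c₂) * V' = 0 by linear_combination f11 - f22)).resolve_left (mul_ne_zero h2 hb)
    subst hV'
    exact ⟨by linear_combination f11, rfl, by ring, rfl⟩

/-- The vectors orthogonal to the image of `F² ⊗ x` under a product of two conjugates. -/
theorem exists_product (hM : S.Over M) (hS : Small hM) {z : (X × X) ≃ₗ[F] (X × X)} (hz : z ∈ M)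
    {R J : X →ₗ[F] X} {c₀ c₁ c₂ : F} (hc : c₀ ≠ 0 ∨ c₁ ≠ 0 ∨ c₂ ≠ 0)
    (hzf : ∀ u v, z (u, v) = (R u + c₀ • J u + c₁ • J v, c₂ • J u + (R v - c₀ • J v)))
    (N : X ≃ₗ[F] X) (hN : ∀ u v, S.β (N u) (N v) = S.β u v) {x : X} (hx : S.β x x ≠ 0) :
    ∃ K₂ : Submodule F X, finrank F X ≤ finrank F K₂ + 2 ∧ ∀ k ∈ K₂,
      (S.β (J (N (J (N.symm x)))) k = 0 ∨ S.β (J (N (R (N.symm x)))) k = -S.β (R (N (J (N.symm x)))) k) →
      S.β (R (N (R (N.symm x)))) k = 0 ∧ S.β (R (N (J (N.symm x)))) k = 0 ∧
        S.β (J (N (R (N.symm x)))) k = 0 ∧ S.β (J (N (J (N.symm x)))) k = 0 := by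
  set w := N (J (N.symm x)) with hw
  set r := N (R (N.symm x)) with hr
  obtain ⟨a, b, c, d, hd, c₀', c₁', c₂', e0, e1, e2, e3, hsep⟩ := exists_twist S.two hc
  set e := mat (X := X) a b c d hd * diag N with he
  have heM : e ∈ M := M.mul_mem (hM.mat_mem hd) (hM.diag_mem hN)
  set q := z * (e * z * e⁻¹) with hq
  have hqM : q ∈ M := M.mul_mem hz (M.mul_mem (M.mul_mem heM hz) (M.inv_mem heM))
  -- its conjugate factor on `F² ⊗ x`
  have hz' : ∀ α γ : F, (e * z * e⁻¹) (α • x, γ • x) =
      (α • r + (c₀' * α + c₁' * γ) • w, (c₂' * α - c₀' * γ) • w + γ • r) := by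
    intro α γ
    show e (z (e.symm (α • x, γ • x))) = _
    have hsymm : e.symm (α • x, γ • x) = (((d * α - b * γ) • N.symm x), ((a * γ - c * α) • N.symm x)) := by
      show (diag N).symm ((mat a b c d hd).symm (α • x, γ • x)) = _
      rw [mat_symm_apply]
      simp [diag, map_sub, sub_smul, smul_smul]
    rw [hsymm, hzf]
    show mat a b c d hd (diag N _) = _
    simp only [diag, LinearEquiv.prodCongr_apply, map_add, map_sub, map_smul, ← hw, ← hr, mat_apply]
    refine Prod.ext ?_ ?_
    · match_scalars
      · linear_combination α * hd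
      · linear_combination (d * α - b * γ) * e0 + (a * γ - c * α) * e1 + (c₀' * α + c₁' * γ) * hd
    · match_scalars
      · linear_combination γ * hd
      · linear_combination (d * α - b * γ) * e2 + (a * γ - c * α) * e3 + (c₂' * α - c₀' * γ) * hd
  refine ⟨fixSpace S q x hx, finrank_fixSpace hM hS hqM hx, fun k hk hor => ?_⟩
  obtain ⟨p11, p21⟩ := image_perp hM hqM hx hk 1 0
  obtain ⟨p12, p22⟩ := image_perp hM hqM hx hk 0 1
  have hqx : ∀ α γ : F, q (α • x, γ • x) = z (α • r + (c₀' * α + c₁' * γ) • w,
      (c₂' * α - c₀' * γ) • w + γ • r) := fun α γ => by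
    show z ((e * z * e⁻¹) (α • x, γ • x)) = _
    rw [hz']
  rw [hqx, hzf] at p11 p21 p12 p22
  simp only [map_add, map_sub, map_smul, LinearMap.add_apply, LinearMap.sub_apply, LinearMap.smul_apply,
    smul_eq_mul] at p11 p21 p12 p22
  exact hsep _ _ _ _ (by linear_combination p11) (by linear_combination p12) (by linear_combination p21)
    (by linear_combination p22) hor

/-- No conjugate of a reflection is of the shape `1 ⊗ R + A ⊗ J` with `A ⊗ J ≠ 0`. -/
theorem false_of_shape (hM : S.Over M) (hS : Small hM) {g : (X × X) ≃ₗ[F] (X × X)} (hg : g ∈ M) {x : X}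
    (hx : S.β x x ≠ 0) (hnd : ¬ ∃ R : X →ₗ[F] X, ∀ u v, S.inv' g x hx (u, v) = (R u, R v)) : False := by
  haveI := S.finite
  obtain ⟨K, R, J, c₀, c₁, c₂, hdim, hRs, hJ, hJ0, hc, hK, hzf⟩ := inv'_shape hM hS hg hx hnd
  have hzM := hM.inv'_mem hg x hx
  have hzz := S.inv'_invol g x hx
  -- relations from the involution
  have hrel : ∀ u, R (J u) = -J (R u) ∧ R (R u) = u - (c₀ * c₀ + c₁ * c₂) • J (J u) := by
    intro u
    have h1 := hzz (u, 0)
    have h2 := hzz (0, u)
    rw [hzf, hzf] at h1 h2
    simp only [map_add, map_sub, map_smul, map_zero, smul_zero, add_zero, zero_add, sub_zero, Prod.mk.injEq]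
      at h1 h2
    have hanti : R (J u) + J (R u) = 0 := by
      rcases hc with h | h | h
      · refine (smul_eq_zero.1 (show (2 * c₀) • (R (J u) + J (R u)) = 0 from ?_)).resolve_left
          (mul_ne_zero S.two h)
        linear_combination (norm := module) h1.1 - h2.2
      · refine (smul_eq_zero.1 (show c₁ • (R (J u) + J (R u)) = 0 from ?_)).resolve_left h
        linear_combination (norm := module) h2.1
      · refine (smul_eq_zero.1 (show c₂ • (R (J u) + J (R u)) = 0 from ?_)).resolve_left h
        linear_combination (norm := module) h1.2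
    refine ⟨eq_neg_of_add_eq_zero_left hanti, ?_⟩
    linear_combination (norm := module) h1.1 - congrArg (c₀ • ·) hanti
  -- the orthogonal plane of `K`
  let T : X →ₗ[F] (K →ₗ[F] F) := S.β.compl₂ K.subtype
  have hT : ∀ v, v ∈ LinearMap.ker T ↔ ∀ k ∈ K, S.β v k = 0 := fun v => by
    rw [LinearMap.mem_ker]
    exact ⟨fun h k hk => LinearMap.congr_fun h ⟨k, hk⟩, fun h => LinearMap.ext fun k => h k k.2⟩
  have hRim : ∀ u, R u - u ∈ LinearMap.ker T := fun u => (hT _).2 fun k hk => by
    rw [map_sub, LinearMap.sub_apply, hRs, (hK k hk).1, sub_self]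
  have hPdim : finrank F X ≤ finrank F (LinearMap.ker T) + finrank F K := by
    have h1 := LinearMap.finrank_range_add_finrank_ker T
    have h2 := Submodule.finrank_le (LinearMap.range T)
    rw [finrank_linearMap_self] at h2
    omega
  have hPup : finrank F (LinearMap.ker T) + finrank F K ≤ finrank F X := by
    have hinjK : Function.Injective (S.β ∘ₗ K.subtype) := (injective_iff_map_eq_zero _).2 fun k hk =>
      Subtype.ext (S.nd _ fun y => LinearMap.congr_fun hk y)
    let Λ : K →ₗ[F] (LinearMap.ker T).dualAnnihilator :=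
      { toFun := fun k => ⟨S.β k, (Submodule.mem_dualAnnihilator _).2 fun v hv => by
          rw [S.symm]; exact (hT v).1 hv k k.2⟩
        map_add' := fun k l => Subtype.ext (map_add S.β (k : X) l)
        map_smul' := fun t k => Subtype.ext (map_smul S.β t (k : X)) }
    have h3 := LinearMap.finrank_le_finrank_of_injective (f := Λ) fun k l h => hinjK (congrArg Subtype.val h)
    have h4 := Subspace.finrank_add_finrank_dualAnnihilator_eq (LinearMap.ker T)
    omega
  have hdimX := S.dim
  obtain ⟨p, hp, hpp⟩ : ∃ p ∈ LinearMap.ker T, S.β p p ≠ 0 := by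
    by_contra hcon
    push Not at hcon
    have hperp : ∀ v ∈ LinearMap.ker T, ∀ v' ∈ LinearMap.ker T, S.β v v' = 0 := fun v hv v' hv' => by
      have h1 := hcon _ (Submodule.add_mem _ hv hv')
      rw [S.norm_add, hcon v hv, hcon v' hv', zero_add, add_zero] at h1
      exact (mul_eq_zero.1 h1).resolve_left S.two
    -- the involution would be unipotent
    have hJim : ∀ u, J u ∈ LinearMap.ker T := fun u => (hT _).2 fun k hk => by
      rw [hJ, (hK k hk).2, map_zero, neg_zero]
    have hkill : ∀ v ∈ LinearMap.ker T, J v = 0 ∧ R v = v := fun v hv =>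
      ⟨S.nd _ fun u => by rw [hJ, hperp v hv _ (hJim u), neg_zero],
        sub_eq_zero.1 (S.nd _ fun u => by
          have h1 := hperp v hv _ (hRim u)
          rw [map_sub, ← hRs] at h1
          rwa [map_sub, LinearMap.sub_apply])⟩
    refine hJ0 (LinearMap.ext fun u => ?_)
    have e1 := (hrel u).1
    rw [(hkill _ (hJim u)).2] at e1
    have e2 : J (R u) = J u := by
      have := (hkill _ (hRim u)).1
      rwa [map_sub, sub_eq_zero] at this
    rw [e2] at e1
    exact (smul_eq_zero.1 (show (2 : F) • J u = 0 by rw [two_smul]; exact eq_neg_iff_add_eq_zero.1 e1)).resolve_left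
      S.two
  obtain ⟨q₀, hq₀, hq₀p⟩ : ∃ v ∈ LinearMap.ker T, v ∉ Submodule.span F {p} := by
    refine SetLike.exists_of_lt (lt_of_le_of_ne ((Submodule.span_singleton_le_iff_mem _ _).2 hp) fun h => ?_)
    rw [← h] at hPdim
    have h1 := finrank_span_le_card (R := F) ({p} : Set X)
    simp at h1
    omega
  obtain ⟨q, hqd⟩ : ∃ q, q = q₀ - (S.β q₀ p / S.β p p) • p := ⟨_, rfl⟩
  have hq : q ∈ LinearMap.ker T := hqd ▸ Submodule.sub_mem _ hq₀ (Submodule.smul_mem _ _ hp)
  have hqp : S.β q p = 0 := by simp [hqd, div_mul_cancel₀ _ hpp]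
  have hpq : S.β p q = 0 := by rw [S.symm, hqp]
  have hq0 : q ≠ 0 := fun h => hq₀p (Submodule.mem_span_singleton.2 ⟨_, (sub_eq_zero.1 (hqd ▸ h)).symm⟩)
  have hpK : ∀ k ∈ K, S.β k p = 0 ∧ S.β k q = 0 := fun k hk =>
    ⟨by rw [S.symm]; exact (hT p).1 hp k hk, by rw [S.symm]; exact (hT q).1 hq k hk⟩
  have hskK : ∀ k ∈ K, S.skewOf p q k = 0 := fun k hk => by
    rw [skewOf_apply, (hpK k hk).1, (hpK k hk).2, zero_smul, zero_smul, sub_zero]
  have hsk0 : S.skewOf p q ≠ 0 := fun h => hq0 (by
    have h1 := LinearMap.congr_fun h p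
    rw [skewOf_apply, hpq, zero_smul, zero_sub, LinearMap.zero_apply, neg_eq_zero, smul_eq_zero] at h1
    exact h1.resolve_left hpp)
  obtain ⟨j, hj⟩ := skew_unique hdim.le (S.skewOf_skew p q) hJ hskK (fun k hk => (hK k hk).2) hsk0
  have hj0 : j ≠ 0 := fun h => hJ0 (by rw [hj, h, zero_smul])
  have hJa : ∀ u, J u = j • (S.β u q • p - S.β u p • q) := fun u => by rw [hj]; rfl
  have hRdecomp : ∀ u, ∃ α γ : F, R u - u = α • p + γ • q := by
    intro u
    have hli : LinearIndependent F ![p, q] := LinearIndependent.pair_iff.2 fun α γ h => by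
      have e1 := congrArg (S.β · p) h
      simp only [map_add, map_smul, LinearMap.add_apply, LinearMap.smul_apply, smul_eq_mul, map_zero,
        LinearMap.zero_apply, hqp, mul_zero, add_zero] at e1
      have hα := (mul_eq_zero.1 e1).resolve_right hpp
      rw [hα, zero_smul, zero_add, smul_eq_zero] at h
      exact ⟨hα, h.resolve_right hq0⟩
    have h2 := finrank_span_eq_card hli
    rw [Matrix.range_cons_cons_empty, Fintype.card_fin] at h2
    have hle : Submodule.span F {p, q} ≤ LinearMap.ker T := by
      rw [Submodule.span_le]; rintro v (rfl | rfl); exacts [hp, hq]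
    have heq := Submodule.eq_of_le_of_finrank_le hle (by omega)
    obtain ⟨α, γ, h⟩ := Submodule.mem_span_pair.1 (heq ▸ hRim u)
    exact ⟨α, γ, h.symm⟩
  have hJp : J p = -(j * S.β p p) • q := by rw [hJa, hpq, zero_smul, zero_sub, smul_neg, smul_smul, neg_smul]
  have hJq : J q = (j * S.β q q) • p := by rw [hJa, hqp, zero_smul, sub_zero, smul_smul]
  -- three vectors from the product with the conjugate by the shear alone
  have hprod : ∀ x : X, S.β x x ≠ 0 → LinearIndependent F ![x, R (J x), J (J x)] → False := by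
    intro x hx hli
    obtain ⟨K₂, hK₂, hperp⟩ := exists_product hM hS hzM hc hzf (LinearEquiv.refl F X) (fun _ _ => rfl) hx
    refine false_of_indep (S := S) hK₂ hli fun k hk i => ?_
    obtain ⟨h1, h2, -, h4⟩ := hperp k hk (Or.inr (by
      show S.β (J (R x)) k = -S.β (R (J x)) k
      rw [(hrel x).1, map_neg, LinearMap.neg_apply, neg_neg]))
    simp only [LinearEquiv.refl_symm, LinearEquiv.refl_apply] at h1 h2 h4
    fin_cases i
    · show S.β x k = 0
      rw [(hrel x).2, map_sub, map_smul, LinearMap.sub_apply, LinearMap.smul_apply, h4, smul_zero, sub_zero] at h1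
      exact h1
    · exact h2
    · exact h4
  have hzero3 : ∀ {a b c : F} {u v w : X}, a • u + b • v + c • w = 0 → ∀ t,
      a * S.β u t + b * S.β v t + c * S.β w t = 0 := fun {a b c u v w} h t => by
    simpa using congrArg (S.β · t) h
  by_cases hqq : S.β q q = 0
  · -- a degenerate plane
    have hqK : q ∈ K := by
      let L : X →ₗ[F] F := S.β.flip p
      have hle : K ≤ LinearMap.ker (L.prod (S.β.flip q)) := fun k hk => by
        simp [L, (hpK k hk).1, (hpK k hk).2]
      obtain ⟨σ₀, hσ₀⟩ := not_forall.1 fun h => hq0 (S.nd q h)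
      have hsurj : LinearMap.range (L.prod (S.β.flip q)) = ⊤ := by
        rw [eq_top_iff]
        rintro ⟨α, γ⟩ -
        set s := (S.β q σ₀)⁻¹ • (σ₀ - (S.β σ₀ p / S.β p p) • p) with hsd
        have hqs : S.β q s = 1 := by
          simp only [hsd, map_smul, map_sub, smul_eq_mul, hqp, mul_zero, sub_zero]
          exact inv_mul_cancel₀ hσ₀
        have hsp : S.β s p = 0 := by simp [hsd, div_mul_cancel₀ _ hpp]
        exact ⟨(α / S.β p p) • p + γ • s, by simp [L, div_mul_cancel₀ _ hpp, hpq, hsp, S.symm s q, hqs]⟩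
      have h1 := LinearMap.finrank_range_add_finrank_ker (L.prod (S.β.flip q))
      rw [hsurj, finrank_top, finrank_prod, finrank_self] at h1
      rw [Submodule.eq_of_le_of_finrank_le hle (by omega)]
      simp [L, hqp, hqq]
    obtain ⟨x, hxx, hxq⟩ : ∃ x, S.β x x ≠ 0 ∧ S.β x q ≠ 0 := by
      by_contra hcon
      push Not at hcon
      exact hq0 (S.nd q fun y => by
        have htop := S.aniso_span (D := LinearMap.ker (S.β q)) fun u hu => by
          rw [LinearMap.mem_ker, S.symm]; exact hcon u hu
        exact LinearMap.mem_ker.1 (htop ▸ Submodule.mem_top : y ∈ LinearMap.ker (S.β q)))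
    obtain ⟨α, γ, hRp⟩ := hRdecomp p
    have hα : α = -2 := by
      have e1 := (hrel p).1
      have hRp' : R p = p + (α • p + γ • q) := by rw [← hRp]; abel
      rw [hJp, map_smul, (hK q hqK).1, hRp', map_add, map_add, map_smul, map_smul, hJp, hJq, hqq] at e1
      have e2 : ((2 + α) * (j * S.β p p)) • q = 0 := by
        linear_combination (norm := module) -e1
      have e3 := ((smul_eq_zero.1 e2).resolve_right hq0)
      have := (mul_eq_zero.1 e3).resolve_right (mul_ne_zero hj0 hpp)
      linear_combination this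
    have hRp' : R p = -p + γ • q := by
      rw [show R p = p + (R p - p) by abel, hRp, hα]; module
    refine hprod x hxx (Fintype.linearIndependent_iff.2 fun f hf => ?_)
    simp only [Fin.sum_univ_three, Matrix.cons_val_zero, Matrix.cons_val_one, Matrix.cons_val] at hf
    have e1 : R (J x) = (-(j * S.β x q)) • p + (j * (S.β x q * γ - S.β x p)) • q := by
      rw [hJa x, map_smul, map_sub, map_smul, map_smul, hRp', (hK q hqK).1]; module
    have e2 : J (J x) = (-(j * S.β x q * j * S.β p p)) • q := by
      rw [hJa x, map_smul, map_sub, map_smul, map_smul, hJp, hJq, hqq]; module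
    rw [e1, e2] at hf
    have g1 := hzero3 hf q
    simp only [map_add, map_smul, LinearMap.add_apply, LinearMap.smul_apply, smul_eq_mul, hpq, hqq, mul_zero,
      add_zero] at g1
    have f0 : f 0 = 0 := (mul_eq_zero.1 g1).resolve_right hxq
    have g2 := hzero3 hf p
    simp only [f0, map_add, map_smul, LinearMap.add_apply, LinearMap.smul_apply, smul_eq_mul, hqp, zero_mul,
      mul_zero, add_zero, zero_add] at g2
    have f1 : f 1 = 0 := (mul_eq_zero.1 g2).resolve_right
      (mul_ne_zero (neg_ne_zero.2 (mul_ne_zero hj0 hxq)) hpp)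
    rw [f0, f1, zero_smul, zero_smul, zero_add, zero_add, smul_smul, smul_eq_zero] at hf
    have f2 : f 2 = 0 := (mul_eq_zero.1 (hf.resolve_right hq0)).resolve_right
      (neg_ne_zero.2 (mul_ne_zero (mul_ne_zero (mul_ne_zero hj0 hxq) hj0) hpp))
    intro i
    fin_cases i <;> assumption
  · -- a non-degenerate plane
    have hKmem : ∀ v, S.β v p = 0 → S.β v q = 0 → v ∈ K := by
      let L : X →ₗ[F] F × F := (S.β.flip p).prod (S.β.flip q)
      have hsurj : LinearMap.range L = ⊤ := by
        rw [eq_top_iff]
        rintro ⟨α, γ⟩ -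
        exact ⟨(α / S.β p p) • p + (γ / S.β q q) • q,
          by simp [L, div_mul_cancel₀ _ hpp, div_mul_cancel₀ _ hqq, hpq, hqp]⟩
      have h1 := LinearMap.finrank_range_add_finrank_ker L
      rw [hsurj, finrank_top, finrank_prod, finrank_self] at h1
      have heq : K = LinearMap.ker L := Submodule.eq_of_le_of_finrank_eq (fun k hk => by
        simp [L, (hpK k hk).1, (hpK k hk).2]) (by omega)
      intro v hvp hvq
      rw [heq]
      simp [L, hvp, hvq]
    -- `J ∘ J` is scalar on the plane
    set j₂ := -(j * j * S.β p p * S.β q q) with hj₂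
    have hj₂0 : j₂ ≠ 0 := neg_ne_zero.2 (mul_ne_zero (mul_ne_zero (mul_ne_zero hj0 hj0) hpp) hqq)
    have hJJp : J (J p) = j₂ • p := by rw [hJp, map_smul, hJq, hj₂]; module
    have hJJq : J (J q) = j₂ • q := by rw [hJq, map_smul, hJp, hj₂]; module
    by_cases hRJ : ∀ v ∈ LinearMap.ker T, R (J v) = 0
    · -- `R` kills the plane
      have hRp : R p = 0 := by
        have h := hRJ q hq
        rw [hJq, map_smul, smul_eq_zero] at h
        exact h.resolve_left (mul_ne_zero hj0 hqq)
      have hRq : R q = 0 := by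
        have h := hRJ p hp
        rw [hJp, map_smul, smul_eq_zero] at h
        exact h.resolve_left (neg_ne_zero.2 (mul_ne_zero hj0 hpp))
      obtain ⟨k, hk, hkk⟩ := S.exists_norm (S.orth_two hpp hqq hpq) (by omega) (S.β p p)
      have hkp : S.β k p = 0 := by simpa using hk 0
      have hkq : S.β k q = 0 := by simpa using hk 1
      obtain ⟨k', hk', hk'k'⟩ := S.exists_orth (S.orth_three hpp hqq (show S.β k k ≠ 0 by rw [hkk]; exact hpp) hpq
        (by rw [S.symm, hkp]) (by rw [S.symm, hkq])) (by omega)
      have hk'p : S.β k' p = 0 := by simpa using hk' 0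
      have hk'q : S.β k' q = 0 := by simpa using hk' 1
      have hk'k : S.β k' k = 0 := by simpa using hk' 2
      have hkK := hKmem k hkp hkq
      have hk'K := hKmem k' hk'p hk'q
      have hdd : S.β (p - k) (p - k) = 2 * S.β p p := by rw [S.norm_sub, S.symm p k, hkp, hkk]; ring
      have hd0 : S.β (p - k) (p - k) ≠ 0 := by rw [hdd]; exact mul_ne_zero S.two hpp
      set N := S.refl (p - k) hd0
      have hNp : N p = k := by
        rw [S.refl_apply, hdd, map_sub, S.symm p k, hkp, sub_zero,
          show 2 / (2 * S.β p p) * S.β p p = 1 by have := S.two; field_simp]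
        module
      have hNk : N k = p := by rw [← hNp]; exact S.refl_refl _ _ p
      have hNk' : N k' = k' := S.refl_fix hd0 (by simp [hk'p, hk'k])
      have hNq : N q = q := S.refl_fix hd0 (by simp [hqp, S.symm q k, hkq])
      obtain ⟨s, hs⟩ : ∃ s : F, S.β p p + S.β k' k' + S.β q q + s * s * S.β p p ≠ 0 := by
        by_contra hcon
        push Not at hcon
        exact hpp (by linear_combination hcon 1 - hcon 0)
      set x' := k + k' + q + s • p with hx'
      have hxx : S.β (N x') (N x') ≠ 0 := by
        rw [S.refl_iso, hx']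
        intro h
        simp only [map_add, map_smul, LinearMap.add_apply, LinearMap.smul_apply, smul_eq_mul, hkp, hkq, hk'p, hk'q,
          hk'k, hkk, hpq, hqp, S.symm p k, S.symm q k, S.symm p k', S.symm q k', S.symm k k', mul_zero, add_zero,
          zero_add] at h
        exact hs (by linear_combination h)
      obtain ⟨K₂, hK₂, hperp⟩ := exists_product hM hS hzM hc hzf N (S.refl_iso _ _) hxx
      have hRx : R x' = k + k' := by
        rw [hx', map_add, map_add, map_add, map_smul, (hK k hkK).1, (hK k' hk'K).1, hRq, hRp]; simp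
      have hJx : J x' = (j * S.β q q) • p + (s * -(j * S.β p p)) • q := by
        rw [hx', map_add, map_add, map_add, map_smul, (hK k hkK).2, (hK k' hk'K).2, hJq, hJp]; module
      have v1 : R (N (R x')) = k' := by
        rw [hRx, map_add, hNk, hNk', map_add, hRp, (hK k' hk'K).1, zero_add]
      have v2 : R (N (J x')) = (j * S.β q q) • k := by
        rw [hJx, map_add, map_smul, map_smul, hNp, hNq, map_add, map_smul, map_smul, hRq, (hK k hkK).1, smul_zero,
          add_zero]
      have v3 : J (N (R x')) = (-(j * S.β p p)) • q := by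
        rw [hRx, map_add, hNk, hNk', map_add, hJp, (hK k' hk'K).2, add_zero]
      have v4 : J (N (J x')) = (s * -(j * S.β p p) * (j * S.β q q)) • p := by
        rw [hJx, map_add, map_smul, map_smul, hNp, hNq, map_add, map_smul, map_smul, hJq, (hK k hkK).2, smul_zero,
          zero_add, smul_smul]
      refine false_of_tests hK₂ (v := ![k', k, q]) fun a ha => ?_
      obtain ⟨h1, h2, h3, -⟩ := hperp _ ha (Or.inl (by
        simp only [LinearEquiv.symm_apply_apply, v4, Fin.sum_univ_three, Matrix.cons_val_zero, Matrix.cons_val_one,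
          Matrix.cons_val, map_add, map_smul, LinearMap.smul_apply, smul_eq_mul, S.symm p k', hk'p, S.symm p k, hkp,
          hpq, mul_zero, add_zero]))
      simp only [LinearEquiv.symm_apply_apply, v1, v2, v3, Fin.sum_univ_three, Matrix.cons_val_zero,
        Matrix.cons_val_one, Matrix.cons_val, map_add, map_smul, LinearMap.smul_apply, smul_eq_mul, hk'k, hk'q,
        S.symm k k', hkq, S.symm q k', S.symm q k, mul_zero, add_zero, zero_add, neg_mul, neg_eq_zero] at h1 h2 h3
      have a0 : a 0 = 0 := (mul_eq_zero.1 h1).resolve_right hk'k'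
      have a1 : a 1 = 0 := by simpa [hj0, hqq, hpp, hkk, S.two] using h2
      have a2 : a 2 = 0 := by simpa [hj0, hpp, hqq, hkk, S.two] using h3
      funext i
      fin_cases i <;> assumption
    · -- `R J` is not scalar on the plane
      push Not at hRJ
      obtain ⟨v₀, hv₀, hv₀0⟩ := hRJ
      have hPmem : ∀ v ∈ LinearMap.ker T, ∃ α γ : F, v = α • p + γ • q := by
        intro v hv
        refine ⟨S.β v p / S.β p p, S.β v q / S.β q q, ?_⟩
        have hvK : v - ((S.β v p / S.β p p) • p + (S.β v q / S.β q q) • q) = 0 := by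
          set d := v - ((S.β v p / S.β p p) • p + (S.β v q / S.β q q) • q) with hd
          have hd1 : S.β d p = 0 := by simp [hd, div_mul_cancel₀ _ hpp, hqp]
          have hd2 : S.β d q = 0 := by simp [hd, div_mul_cancel₀ _ hqq, hpq]
          have hdT : d ∈ LinearMap.ker T := Submodule.sub_mem _ hv
            (Submodule.add_mem _ (Submodule.smul_mem _ _ hp) (Submodule.smul_mem _ _ hq))
          refine S.nd d fun y => ?_
          set y' := y - ((S.β y p / S.β p p) • p + (S.β y q / S.β q q) • q) with hy'
          have hy'K : y' ∈ K := hKmem y' (by simp [hy', div_mul_cancel₀ _ hpp, hqp])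
            (by simp [hy', div_mul_cancel₀ _ hqq, hpq])
          have := (hT d).1 hdT y' hy'K
          simpa [hy', hd1, hd2] using this
        exact sub_eq_zero.1 hvK
      have hJJ : ∀ v ∈ LinearMap.ker T, J (J v) = j₂ • v := fun v hv => by
        obtain ⟨α, γ, rfl⟩ := hPmem v hv
        simp only [map_add, map_smul, hJJp, hJJq]
        module
      have hJmem : ∀ u, J u ∈ LinearMap.ker T := fun u => (hT _).2 fun k hk => by
        rw [hJ, (hK k hk).2, map_zero, neg_zero]
      have hRJmem : ∀ v, R (J v) ∈ LinearMap.ker T := fun v => by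
        have h1 := Submodule.add_mem _ (hRim (J v)) (hJmem v)
        rwa [sub_add_cancel] at h1
      -- a vector of the plane moved off its line
      obtain ⟨v, hv, hvne⟩ : ∃ v ∈ LinearMap.ker T, ∀ c : F, R (J v) ≠ c • v := by
        by_contra hcon
        push Not at hcon
        obtain ⟨cp, hcp⟩ := hcon p hp
        obtain ⟨cq, hcq⟩ := hcon q hq
        obtain ⟨cs, hcs⟩ := hcon (p + q) (Submodule.add_mem _ hp hq)
        rw [map_add, map_add, hcp, hcq] at hcs
        have e1 := congrArg (S.β · p) hcs
        have e2 := congrArg (S.β · q) hcs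
        simp only [map_add, map_smul, LinearMap.add_apply, LinearMap.smul_apply, smul_eq_mul, hqp, hpq, mul_zero,
          add_zero, zero_add, mul_eq_mul_right_iff, hpp, hqq, or_false] at e1 e2
        have hsc : ∀ v ∈ LinearMap.ker T, R (J v) = cs • v := fun v hv => by
          obtain ⟨α, γ, rfl⟩ := hPmem v hv
          simp only [map_add, map_smul, hcp, hcq, e1, e2]
          module
        have h1 := hsc (J v₀) (hJmem v₀)
        have h2 := (hrel (J v₀)).1
        rw [h1, hsc v₀ hv₀, map_smul] at h2
        have h3 : (2 * cs) • J v₀ = 0 := by linear_combination (norm := module) h2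
        rcases smul_eq_zero.1 h3 with h | h
        · rw [hsc v₀ hv₀, (mul_eq_zero.1 h).resolve_left S.two, zero_smul] at hv₀0
          exact hv₀0 rfl
        · rw [h, map_zero] at hv₀0
          exact hv₀0 rfl
      -- an anisotropic vector off the plane
      obtain ⟨k₁, hk₁, hk₁₁⟩ := S.exists_orth (S.orth_two hpp hqq hpq) (by omega)
      obtain ⟨k₂, hk₂, hk₂₂⟩ := S.exists_orth (Orth.cons S (S.orth_two hpp hqq hpq) hk₁ hk₁₁) (by omega)
      have hk₁p : S.β k₁ p = 0 := by simpa using hk₁ 0
      have hk₁q : S.β k₁ q = 0 := by simpa using hk₁ 1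
      have hk₂₁ : S.β k₂ k₁ = 0 := by simpa using hk₂ 0
      have hk₂p : S.β k₂ p = 0 := by simpa using hk₂ 1
      have hk₂q : S.β k₂ q = 0 := by simpa using hk₂ 2
      obtain ⟨k, hkK, hkk, hkv⟩ : ∃ k ∈ K, S.β k k ≠ 0 ∧ S.β k k ≠ -S.β v v := by
        have hK1 := hKmem k₁ hk₁p hk₁q
        have hK2 := hKmem k₂ hk₂p hk₂q
        by_contra hcon
        push Not at hcon
        have a1 := hcon k₁ hK1 hk₁₁
        have a2 := hcon k₂ hK2 hk₂₂
        have h12 : S.β (k₁ + k₂) (k₁ + k₂) = -(2 * S.β v v) := by
          rw [S.norm_add, S.symm k₁ k₂, hk₂₁, a1, a2]; ring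
        have hvv0 : S.β v v ≠ 0 := fun h => hk₁₁ (by rw [a1, h, neg_zero])
        have a3 := hcon (k₁ + k₂) (K.add_mem hK1 hK2) (by rw [h12]; exact neg_ne_zero.2 (mul_ne_zero S.two hvv0))
        exact hvv0 (by linear_combination h12 - a3)
      have hkpT : ∀ w ∈ LinearMap.ker T, S.β k w = 0 := fun w hw => by rw [S.symm]; exact (hT w).1 hw k hkK
      have hxx : S.β (v + k) (v + k) ≠ 0 := by
        rw [S.norm_add, S.symm v k, hkpT v hv]
        intro h
        exact hkv (by linear_combination h)
      refine hprod (v + k) hxx (Fintype.linearIndependent_iff.2 fun f hf => ?_)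
      simp only [Fin.sum_univ_three, Matrix.cons_val_zero, Matrix.cons_val_one, Matrix.cons_val, map_add,
        (hK k hkK).2, map_zero, add_zero, hJJ v hv] at hf
      have g1 := hzero3 hf k
      simp only [map_add, map_smul, LinearMap.add_apply, LinearMap.smul_apply, smul_eq_mul, S.symm v k,
        S.symm (R (J v)) k, hkpT v hv, hkpT _ (hRJmem v), mul_zero, add_zero, zero_add] at g1
      have f0 : f 0 = 0 := (mul_eq_zero.1 g1).resolve_right hkk
      rw [f0, zero_smul, zero_add, smul_smul] at hf
      have f1 : f 1 = 0 := by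
        by_contra h
        refine hvne (-(f 2 * j₂) / f 1) (smul_right_injective X h ?_)
        simp only [smul_smul, mul_div_cancel₀ _ h]
        linear_combination (norm := module) hf
      rw [f1, zero_smul, zero_add, smul_eq_zero] at hf
      have hv0 : v ≠ 0 := fun h => hvne 0 (by rw [h, map_zero, map_zero, smul_zero])
      have f2 : f 2 = 0 := (mul_eq_zero.1 (hf.resolve_right hv0)).resolve_right hj₂0
      intro i
      fin_cases i <;> assumption

/-- The dichotomy. -/
theorem dichotomy (hM : S.Over M) : (∀ g ∈ M, Dec g) ∨ ∀ u l, S.rt u l ∈ M := by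
  classical
  by_cases hS : Small hM
  swap
  · right
    simp only [Small, not_forall, not_exists] at hS
    obtain ⟨A, hA, hns⟩ := hS
    exact roots_of_radical hM hA hns
  left
  intro g hg
  haveI := S.finite
  have hline : ∀ x, S.β x x ≠ 0 → ∃ (p : X) (a b c d : F), g (x, 0) = (a • p, c • p) ∧ g (0, x) = (b • p, d • p) := by
    intro x hx
    obtain ⟨R, hR⟩ := not_not.1 fun h => false_of_shape hM hS hg hx h
    set z := S.inv' g x hx with hz
    have hneg : ∀ v : X × X, S.refl x hx v.1 = -v.1 → S.refl x hx v.2 = -v.2 → z (g v) = -g v := fun v h1 h2 => by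
      show g (diag (S.refl x hx) (g.symm (g v))) = _
      rw [LinearEquiv.symm_apply_apply, ← map_neg]
      exact congrArg g (Prod.ext h1 h2)
    have hE := hneg (x, 0) (S.refl_self hx) (by simp)
    have hE' := hneg (0, x) (by simp) (S.refl_self hx)
    have hmem : ∀ v, z v = -v → v ∈ Submodule.span F {g (x, 0), g (0, x)} := by
      intro v hv
      rw [hz, S.inv'_apply] at hv
      set α := 2 / S.β x x * S.β (g.symm v).1 x
      set γ := 2 / S.β x x * S.β (g.symm v).2 x
      refine Submodule.mem_span_pair.2 ⟨α / 2, γ / 2, smul_right_injective (X × X) S.two ?_⟩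
      simp only [smul_add, smul_smul, mul_div_cancel₀ _ S.two]
      linear_combination (norm := module) -hv
    obtain ⟨p, hp, hp0⟩ : ∃ p, R p = -p ∧ p ≠ 0 := by
      have h1 := hR (g (x, 0)).1 (g (x, 0)).2
      rw [Prod.mk.eta, hE] at h1
      by_cases h0 : (g (x, 0)).1 = 0
      · refine ⟨(g (x, 0)).2, (congrArg Prod.snd h1).symm, fun h => hx ?_⟩
        have : g (x, 0) = g 0 := by rw [map_zero]; exact Prod.ext h0 h
        have := congrArg Prod.fst (g.injective this)
        simp only [Prod.fst_zero] at this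
        rw [this]; simp
      · exact ⟨_, (congrArg Prod.fst h1).symm, h0⟩
    have hle : Submodule.span F {((p, 0) : X × X), (0, p)} ≤ Submodule.span F {g (x, 0), g (0, x)} := by
      rw [Submodule.span_le]
      rintro v (rfl | rfl) <;> refine hmem _ ?_ <;> simp [hR, hp]
    have hfin : finrank F (Submodule.span F {((p, 0) : X × X), (0, p)}) = 2 := by
      have hli : LinearIndependent F ![((p, 0) : X × X), (0, p)] := LinearIndependent.pair_iff.2 fun α γ h => by
        have e1 := congrArg Prod.fst h
        have e2 := congrArg Prod.snd h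
        simp [hp0] at e1 e2
        exact ⟨e1, e2⟩
      have := finrank_span_eq_card hli
      rwa [Matrix.range_cons_cons_empty, Fintype.card_fin] at this
    have hup : finrank F (Submodule.span F {g (x, 0), g (0, x)}) ≤ 2 := by
      refine (finrank_span_le_card ({g (x, 0), g (0, x)} : Set (X × X))).trans ?_
      simpa using Finset.card_le_two
    have heq := Submodule.eq_of_le_of_finrank_le hle (by omega)
    obtain ⟨a, c, hac⟩ := Submodule.mem_span_pair.1
      (heq.symm ▸ Submodule.subset_span (Set.mem_insert _ _) :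
        g (x, 0) ∈ Submodule.span F {((p, 0) : X × X), (0, p)})
    obtain ⟨b, d, hbd⟩ := Submodule.mem_span_pair.1
      (heq.symm ▸ Submodule.subset_span (Set.mem_insert_of_mem _ rfl) :
        g (0, x) ∈ Submodule.span F {((p, 0) : X × X), (0, p)})
    exact ⟨p, a, b, c, d, by rw [← hac]; simp, by rw [← hbd]; simp⟩
  obtain ⟨x₀, hx₀⟩ := S.exists_aniso
  obtain ⟨p₀, a, b, c, d, hg₀, hg₀'⟩ := hline x₀ hx₀
  have hx00 : x₀ ≠ 0 := fun h => hx₀ (by rw [h]; simp)
  have hac : a ≠ 0 ∨ c ≠ 0 := by
    by_contra h
    push Not at h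
    rw [h.1, h.2, zero_smul] at hg₀
    exact hx00 (congrArg Prod.fst (g.injective (hg₀.trans (map_zero g).symm) : (x₀, (0 : X)) = 0))
  let P : Submodule F X :=
    { carrier := {x | ∃ n, g (x, 0) = (a • n, c • n) ∧ g (0, x) = (b • n, d • n)}
      zero_mem' := ⟨0, by simp [show ((0, 0) : X × X) = 0 from rfl]⟩
      add_mem' := by
        rintro x y ⟨n, hn, hn'⟩ ⟨m, hm, hm'⟩
        refine ⟨n + m, ?_, ?_⟩
        · rw [show ((x + y, 0) : X × X) = (x, 0) + (y, 0) by simp, map_add, hn, hm]; simp
        · rw [show ((0, x + y) : X × X) = (0, x) + (0, y) by simp, map_add, hn', hm']; simp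
      smul_mem' := by
        rintro t x ⟨n, hn, hn'⟩
        refine ⟨t • n, ?_, ?_⟩
        · rw [show ((t • x, 0) : X × X) = t • (x, 0) by simp, map_smul, hn]; simp [smul_comm t]
        · rw [show ((0, t • x) : X × X) = t • (0, x) by simp, map_smul, hn']; simp [smul_comm t] }
  -- two members with an anisotropic sum
  have hstep : ∀ u v, S.β u u ≠ 0 → S.β v v ≠ 0 → S.β u v ≠ 0 → u ∈ P → v ∈ P := by
    intro u v hu hv huv huP
    obtain ⟨n, hn, hn'⟩ := huP
    obtain ⟨m, a', b', c', d', hm, hm'⟩ := hline v hv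
    have hu0 : u ≠ 0 := fun h => hu (by rw [h]; simp)
    have hn0 : n ≠ 0 := fun h => hu0 (by
      rw [h, smul_zero, smul_zero] at hn
      exact congrArg Prod.fst (g.injective (hn.trans (map_zero g).symm) : (u, (0 : X)) = 0))
    by_cases hmn : m ∈ Submodule.span F {n}
    · obtain ⟨μ, rfl⟩ := Submodule.mem_span_singleton.1 hmn
      have hle : Submodule.span F {g (u, 0), g (0, u)} ≤ Submodule.span F {((n, 0) : X × X), (0, n)} := by
        rw [Submodule.span_le]
        rintro w (rfl | rfl)
        · exact Submodule.mem_span_pair.2 ⟨a, c, by rw [hn]; simp⟩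
        · exact Submodule.mem_span_pair.2 ⟨b, d, by rw [hn']; simp⟩
      have hfin : finrank F (Submodule.span F {g (u, 0), g (0, u)}) = 2 := by
        have hli : LinearIndependent F ![g (u, 0), g (0, u)] := LinearIndependent.pair_iff.2 fun α γ h => by
          rw [← map_smul, ← map_smul, ← map_add, ← map_zero g] at h
          have h1 := g.injective h
          have e1 := congrArg Prod.fst h1
          have e2 := congrArg Prod.snd h1
          simp [hu0] at e1 e2
          exact ⟨e1, e2⟩
        have := finrank_span_eq_card hli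
        rwa [Matrix.range_cons_cons_empty, Fintype.card_fin] at this
      have hup : finrank F (Submodule.span F {((n, 0) : X × X), (0, n)}) ≤ 2 := by
        refine (finrank_span_le_card ({((n, 0) : X × X), (0, n)} : Set (X × X))).trans ?_
        simpa using Finset.card_le_two
      have heq := Submodule.eq_of_le_of_finrank_le hle (by omega)
      have hmem : g (v, 0) ∈ Submodule.span F {g (u, 0), g (0, u)} := by
        rw [heq]
        exact Submodule.mem_span_pair.2 ⟨a' * μ, c' * μ, by rw [hm]; simp [smul_smul]⟩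
      obtain ⟨α, γ, h⟩ := Submodule.mem_span_pair.1 hmem
      rw [← map_smul, ← map_smul, ← map_add] at h
      have e1 := congrArg Prod.fst (g.injective h)
      simp at e1
      rw [← e1]
      exact P.smul_mem α ⟨n, hn, hn'⟩
    · obtain ⟨f, hf, hfle⟩ := Submodule.exists_le_ker_of_notMem hmn
      obtain ⟨f', hf', hf'le⟩ := Submodule.exists_le_ker_of_notMem (p := Submodule.span F {m}) (v := n) (fun h => by
        obtain ⟨μ, hμ⟩ := Submodule.mem_span_singleton.1 h
        rcases eq_or_ne μ 0 with rfl | hμ0
        · exact hn0 (by rw [← hμ, zero_smul])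
        · exact hmn (Submodule.mem_span_singleton.2 ⟨μ⁻¹, by rw [← hμ, smul_smul, inv_mul_cancel₀ hμ0, one_smul]⟩))
      have hfn : f n = 0 := hfle (Submodule.mem_span_singleton_self _)
      have hf'm : f' m = 0 := hf'le (Submodule.mem_span_singleton_self _)
      obtain ⟨t, ht, hs⟩ : ∃ t : F, t ≠ 0 ∧ S.β (u + t • v) (u + t • v) ≠ 0 := by
        by_contra hcon
        push Not at hcon
        have g1 := hcon 1 one_ne_zero
        have g2 := hcon (-1) (neg_ne_zero.2 one_ne_zero)
        simp only [S.norm_add, map_smul, LinearMap.smul_apply, smul_eq_mul] at g1 g2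
        exact mul_ne_zero (mul_ne_zero S.two S.two) huv (by linear_combination g1 - g2)
      obtain ⟨n', a'', b'', c'', d'', hs1, hs2⟩ := hline _ hs
      rw [show ((u + t • v, 0) : X × X) = (u, 0) + t • (v, 0) by simp, map_add, map_smul, hn, hm] at hs1
      rw [show ((0, u + t • v) : X × X) = (0, u) + t • (0, v) by simp, map_add, map_smul, hn', hm'] at hs2
      simp only [Prod.smul_mk, Prod.mk_add_mk, Prod.mk.injEq] at hs1 hs2
      have key : ∀ {r r' r'' : F}, r • n + t • r' • m = r'' • n' →
          r * f' n = r'' * f' n' ∧ t * r' * f m = r'' * f n' := by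
        intro r r' r'' h
        have k1 := congrArg f' h
        have k2 := congrArg f h
        simp [hfn, hf'm] at k1 k2
        exact ⟨k1, by linear_combination k2⟩
      have hn'0 : f' n' ≠ 0 := fun h0 => by
        rcases hac with h | h
        · have := (key hs1.1).1
          rw [h0, mul_zero] at this
          exact mul_ne_zero h hf' this
        · have := (key hs1.2).1
          rw [h0, mul_zero] at this
          exact mul_ne_zero h hf' this
      set lam := f' n * f n' / (f' n' * (t * f m))
      have hval : ∀ {r r' r'' : F}, r • n + t • r' • m = r'' • n' → r' = r * lam := by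
        intro r r' r'' h
        obtain ⟨k1, k2⟩ := key h
        simp only [lam]
        field_simp
        linear_combination f' n' * k2 - f n' * k1
      refine ⟨lam • m, ?_, ?_⟩
      · rw [hm, smul_smul, smul_smul, ← hval hs1.1, ← hval hs1.2]
      · rw [hm', smul_smul, smul_smul, ← hval hs2.1, ← hval hs2.2]
  have hall : ∀ x, S.β x x ≠ 0 → x ∈ P := by
    intro x hx
    have h0 : x₀ ∈ P := ⟨p₀, hg₀, hg₀'⟩
    by_cases h : S.β x₀ x = 0
    swap
    · exact hstep x₀ x hx₀ hx h h0
    obtain ⟨k, hk, hkk⟩ := S.exists_orth (S.orth_two hx₀ hx h) (by have := S.dim; omega)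
    have hk0 : S.β k x₀ = 0 := by simpa using hk 0
    have hk1 : S.β k x = 0 := by simpa using hk 1
    obtain ⟨t, ht⟩ := S.exists_add_aniso (x₀ + x) hkk
    refine hstep (x₀ + x + t • k) x ht hx ?_ (hstep x₀ _ hx₀ ht ?_ h0)
    · simpa [h, hk1] using hx
    · simpa [h, S.symm x₀ k, hk0] using hx₀
  have htop := S.aniso_span hall
  rcases hac with h | h
  · refine ⟨a, b, c, d, a⁻¹ • (LinearMap.fst F X X ∘ₗ g.toLinearMap ∘ₗ LinearMap.inl F X X), fun x y => ?_⟩
    obtain ⟨n, hn, hn'⟩ := (htop ▸ Submodule.mem_top : x ∈ P)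
    obtain ⟨m, hm, hm'⟩ := (htop ▸ Submodule.mem_top : y ∈ P)
    rw [show ((x, y) : X × X) = (x, 0) + (0, y) by simp, map_add, hn, hm']
    simp [hn, hm, smul_smul, inv_mul_cancel₀ h, h]
  · refine ⟨a, b, c, d, c⁻¹ • (LinearMap.snd F X X ∘ₗ g.toLinearMap ∘ₗ LinearMap.inl F X X), fun x y => ?_⟩
    obtain ⟨n, hn, hn'⟩ := (htop ▸ Submodule.mem_top : x ∈ P)
    obtain ⟨m, hm, hm'⟩ := (htop ▸ Submodule.mem_top : y ∈ P)
    rw [show ((x, y) : X × X) = (x, 0) + (0, y) by simp, map_add, hn, hm']
    simp [hn, hm, smul_smul, inv_mul_cancel₀ h, h]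

end Symm

end Cfsg.Agent.H57.TensorTwo
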