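import Mathlib

/-!
Anisotropic and isotropic vectors of a symmetric bilinear form in odd characteristic, and the alternating form
`⟨(x₁, x₂), (y₁, y₂)⟩ = β(x₁, y₂) - β(x₂, y₁)` on pairs.
-/

set_option autoImplicit false

namespace Cfsg.Agent.H57.TensorTwo

open Module

/-- A non-degenerate symmetric form on a space of dimension at least four, in odd characteristic, with an
anisotropic vector in every subspace of codimension two. -/
structure Symm (F X : Type*) [Field F] [AddCommGroup X] [Module F X] where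
  β : X →ₗ[F] X →ₗ[F] F
  symm : ∀ x y, β x y = β y x
  nd : ∀ x, (∀ y, β x y = 0) → x = 0
  two : (2 : F) ≠ 0
  dim : 4 ≤ finrank F X
  aniso : ∀ W : Submodule F X, finrank F X ≤ finrank F W + 2 → ∃ x ∈ W, β x x ≠ 0

variable {F X : Type*} [Field F] [AddCommGroup X] [Module F X]

namespace Symm

variable (S : Symm F X)

theorem finite (S : Symm F X) : FiniteDimensional F X :=
  FiniteDimensional.of_finrank_pos (by have := S.dim; omega)

theorem norm_add (x y : X) : S.β (x + y) (x + y) = S.β x x + 2 * S.β x y + S.β y y := by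
  simp only [map_add, LinearMap.add_apply, S.symm y x]; ring

theorem norm_sub (x y : X) : S.β (x - y) (x - y) = S.β x x - 2 * S.β x y + S.β y y := by
  simp only [map_sub, LinearMap.sub_apply, S.symm y x]; ring

/-- A subspace on which the form vanishes has at most half the dimension. -/
theorem two_mul_finrank_le {W : Submodule F X} (h : ∀ x ∈ W, ∀ y ∈ W, S.β x y = 0) :
    2 * finrank F W ≤ finrank F X := by
  haveI := S.finite
  let L : W →ₗ[F] W.dualAnnihilator :=
    { toFun := fun w => ⟨S.β w, (Submodule.mem_dualAnnihilator _).2 fun x hx => h _ w.2 x hx⟩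
      map_add' := fun a b => Subtype.ext (map_add S.β (a : X) b)
      map_smul' := fun c a => Subtype.ext (map_smul S.β c (a : X)) }
  have hinj : Function.Injective L := (injective_iff_map_eq_zero L).2 fun w hw =>
    Subtype.ext (S.nd _ fun y => LinearMap.congr_fun (congrArg Subtype.val hw) y)
  have h1 := LinearMap.finrank_le_finrank_of_injective hinj
  have h3 := Subspace.finrank_add_finrank_dualAnnihilator_eq W
  omega

theorem exists_aniso_mem {W : Submodule F X} (h : finrank F X < 2 * finrank F W) :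
    ∃ x ∈ W, S.β x x ≠ 0 := by
  by_contra hc
  push Not at hc
  refine absurd h (not_lt.2 (S.two_mul_finrank_le fun x hx y hy => ?_))
  have h1 := hc _ (W.add_mem hx hy)
  rw [S.norm_add, hc x hx, hc y hy, zero_add, add_zero] at h1
  exact (mul_eq_zero.1 h1).resolve_left S.two

/-- Adding a multiple of an anisotropic vector gives an anisotropic vector. -/
theorem exists_add_aniso (x : X) {k : X} (hk : S.β k k ≠ 0) :
    ∃ t : F, S.β (x + t • k) (x + t • k) ≠ 0 := by
  by_contra hc
  push Not at hc
  have h0 := hc 0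
  have h1 := hc 1
  have h2 := hc (-1)
  simp only [S.norm_add, map_smul, LinearMap.smul_apply, smul_eq_mul] at h0 h1 h2
  refine hk ((mul_eq_zero.1 (show (2 : F) * S.β k k = 0 by linear_combination h1 + h2 - 2 * h0)).resolve_left
    S.two)

/-- If a subspace contains an anisotropic vector, it is spanned by its anisotropic vectors. -/
theorem mem_of_aniso {W D : Submodule F X} {k : X} (hkW : k ∈ W) (hk : S.β k k ≠ 0)
    (h : ∀ x ∈ W, S.β x x ≠ 0 → x ∈ D) : W ≤ D := fun x hx => by
  obtain ⟨t, ht⟩ := S.exists_add_aniso x hk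
  have := D.sub_mem (h _ (W.add_mem hx (W.smul_mem t hkW)) ht) (D.smul_mem t (h k hkW hk))
  simpa using this

theorem exists_aniso : ∃ x, S.β x x ≠ 0 := by
  obtain ⟨x, -, hx⟩ := S.exists_aniso_mem (W := ⊤) (by
    haveI := S.finite
    rw [finrank_top]; have := S.dim; omega)
  exact ⟨x, hx⟩

theorem aniso_span {D : Submodule F X} (h : ∀ x, S.β x x ≠ 0 → x ∈ D) : D = ⊤ := by
  obtain ⟨k, hk⟩ := S.exists_aniso
  exact top_le_iff.1 (S.mem_of_aniso Submodule.mem_top hk fun x _ hx => h x hx)

/-- A finite list of pairwise orthogonal anisotropic vectors. -/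
def Orth {k : ℕ} (e : Fin k → X) : Prop :=
  (∀ i, S.β (e i) (e i) ≠ 0) ∧ ∀ i j, i ≠ j → S.β (e i) (e j) = 0

theorem exists_orth {k : ℕ} {e : Fin k → X} (he : S.Orth e) (hk : k < finrank F X) :
    ∃ v, (∀ i, S.β v (e i) = 0) ∧ S.β v v ≠ 0 := by
  classical
  haveI := S.finite
  let L : X →ₗ[F] (Fin k → F) := LinearMap.pi fun i => S.β.flip (e i)
  have hL : ∀ x i, L x i = S.β x (e i) := fun x i => rfl
  by_contra hc
  push Not at hc
  have hW : ∀ w ∈ LinearMap.ker L, S.β w w = 0 := fun w hw =>
    hc w fun i => by rw [← hL, LinearMap.mem_ker.1 hw]; rfl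
  obtain ⟨w, hw, hw0⟩ := Submodule.exists_mem_ne_zero_of_ne_bot
    (LinearMap.ker_ne_bot_of_finrank_lt (f := L) (by rw [finrank_fin_fun]; exact hk))
  refine hw0 (S.nd w fun y => ?_)
  set y' := y - ∑ i, (S.β y (e i) / S.β (e i) (e i)) • e i with hy'
  have hy'W : y' ∈ LinearMap.ker L := by
    rw [LinearMap.mem_ker]
    funext j
    rw [hL, hy']
    simp only [map_sub, map_sum, map_smul, LinearMap.sub_apply, LinearMap.sum_apply, LinearMap.smul_apply,
      smul_eq_mul, Pi.zero_apply]
    rw [Finset.sum_eq_single j (fun i _ hij => by rw [he.2 i j hij, mul_zero]) (by simp),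
      div_mul_cancel₀ _ (he.1 j), sub_self]
  have h1 : S.β w y' = 0 := by
    have h2 := hW _ (Submodule.add_mem _ hw hy'W)
    rw [S.norm_add, hW w hw, hW y' hy'W, zero_add, add_zero] at h2
    exact (mul_eq_zero.1 h2).resolve_left S.two
  rw [hy', map_sub, map_sum, Finset.sum_eq_zero (fun i _ => ?_), sub_zero] at h1
  · exact h1
  · rw [map_smul, ← hL w i, LinearMap.mem_ker.1 hw, Pi.zero_apply, smul_zero]

theorem Orth.cons {k : ℕ} {e : Fin k → X} (he : S.Orth e) {v : X} (hv : ∀ i, S.β v (e i) = 0)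
    (hvv : S.β v v ≠ 0) : S.Orth (Fin.cons v e : Fin (k + 1) → X) := by
  refine ⟨fun i => ?_, fun i j hij => ?_⟩
  · induction i using Fin.cases with
    | zero => simpa using hvv
    | succ i => simpa using he.1 i
  · induction i using Fin.cases with
    | zero =>
      induction j using Fin.cases with
      | zero => exact absurd rfl hij
      | succ j => simpa using hv j
    | succ i =>
      induction j using Fin.cases with
      | zero => simpa [S.symm] using hv i
      | succ j => simpa using he.2 i j fun h => hij (by rw [h])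

/-- Every value is taken orthogonally to few orthogonal anisotropic vectors. -/
theorem exists_norm [Fintype F] {k : ℕ} {e : Fin k → X} (he : S.Orth e) (hk : k + 2 ≤ finrank F X) (c : F) :
    ∃ v, (∀ i, S.β v (e i) = 0) ∧ S.β v v = c := by
  obtain ⟨u, hu, huu⟩ := S.exists_orth he (by omega)
  obtain ⟨v, hv, hvv⟩ := S.exists_orth (Orth.cons S he hu huu) (by omega)
  have hvu : S.β v u = 0 := by simpa using hv 0
  have hve : ∀ i, S.β v (e i) = 0 := fun i => by simpa using hv i.succ
  have hodd : Fintype.card F % 2 = 1 :=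
    FiniteField.odd_card_of_char_ne_two fun h => S.two (by
      have := ringChar.spec F 2
      rw [h] at this
      exact_mod_cast this.2 dvd_rfl)
  obtain ⟨p, r, h⟩ := FiniteField.exists_root_sum_quadratic
    (f := Polynomial.C (S.β u u) * Polynomial.X ^ 2 + Polynomial.C (-c))
    (g := Polynomial.C (S.β v v) * Polynomial.X ^ 2)
    (by
      rw [Polynomial.degree_add_eq_left_of_degree_lt]
      · exact Polynomial.degree_C_mul_X_pow _ huu
      · rw [Polynomial.degree_C_mul_X_pow _ huu]
        exact lt_of_le_of_lt Polynomial.degree_C_le (by decide))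
    (Polynomial.degree_C_mul_X_pow _ hvv) hodd
  simp only [Polynomial.eval_add, Polynomial.eval_mul, Polynomial.eval_C, Polynomial.eval_pow,
    Polynomial.eval_X] at h
  refine ⟨p • u + r • v, fun i => by simp [hu i, hve i], ?_⟩
  simp only [S.norm_add, map_smul, LinearMap.smul_apply, smul_eq_mul, S.symm u v, hvu]
  linear_combination h

theorem orth_nil : S.Orth (![] : Fin 0 → X) := ⟨fun i => i.elim0, fun i => i.elim0⟩

theorem orth_one {x : X} (hx : S.β x x ≠ 0) : S.Orth ![x] := Orth.cons S S.orth_nil (fun i => i.elim0) hx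

theorem orth_two {x y : X} (hx : S.β x x ≠ 0) (hy : S.β y y ≠ 0) (h : S.β x y = 0) : S.Orth ![x, y] :=
  Orth.cons S (S.orth_one hy) (fun i => by fin_cases i; simpa using h) hx

theorem orth_three {x y z : X} (hx : S.β x x ≠ 0) (hy : S.β y y ≠ 0) (hz : S.β z z ≠ 0)
    (hxy : S.β x y = 0) (hxz : S.β x z = 0) (hyz : S.β y z = 0) : S.Orth ![x, y, z] :=
  Orth.cons S (S.orth_two hy hz hyz) (fun i => by fin_cases i <;> simpa) hx

theorem exists_isotropic [Fintype F] : ∃ r : X, r ≠ 0 ∧ S.β r r = 0 := by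
  obtain ⟨x, hx⟩ := S.exists_aniso
  obtain ⟨y, hy, hyy⟩ := S.exists_norm (S.orth_one hx) (by have := S.dim; omega) (-S.β x x)
  have hxy : S.β x y = 0 := by rw [S.symm]; simpa using hy 0
  refine ⟨x + y, fun h => hx ?_, by rw [S.norm_add, hxy, hyy]; ring⟩
  have := congrArg (fun v => S.β x v) h
  simpa [hxy] using this

/-- For every non-zero vector there is an isotropic one not orthogonal to it. -/
theorem exists_isotropic_nonorth [Fintype F] {u : X} (hu : u ≠ 0) :
    ∃ r : X, S.β r r = 0 ∧ S.β u r ≠ 0 := by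
  obtain ⟨r, hr0, hr⟩ := S.exists_isotropic
  by_cases hur : S.β u r = 0
  swap
  · exact ⟨r, hr, hur⟩
  obtain ⟨a, ha⟩ := not_forall.1 fun h => hr0 (S.nd r h)
  obtain ⟨b, hb⟩ := not_forall.1 fun h => hu (S.nd u h)
  obtain ⟨v, hv1, hv2⟩ : ∃ v, S.β r v ≠ 0 ∧ S.β u v ≠ 0 := by
    by_cases h1 : S.β u a = 0
    · by_cases h2 : S.β r b = 0
      · exact ⟨a + b, by simpa [h2] using ha, by simpa [h1] using hb⟩
      · exact ⟨b, h2, hb⟩
    · exact ⟨a, ha, h1⟩
  refine ⟨v - (S.β v v / (2 * S.β r v)) • r, ?_, by simpa [hur] using hv2⟩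
  simp only [S.norm_sub, map_smul, LinearMap.smul_apply, smul_eq_mul, hr, S.symm v r]
  have := S.two
  field_simp
  ring

/-- The alternating form on pairs. -/
def ω (p q : X × X) : F := S.β p.1 q.2 - S.β p.2 q.1

/-- An isometry of the form on pairs. -/
def IsIso (g : (X × X) ≃ₗ[F] (X × X)) : Prop := ∀ p q, S.ω (g p) (g q) = S.ω p q

theorem IsIso.mul {g h : (X × X) ≃ₗ[F] (X × X)} (hg : S.IsIso g) (hh : S.IsIso h) : S.IsIso (g * h) :=
  fun p q => (hg _ _).trans (hh p q)

theorem IsIso.inv {g : (X × X) ≃ₗ[F] (X × X)} (hg : S.IsIso g) : S.IsIso g⁻¹ := fun p q => by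
  conv_rhs => rw [← g.apply_symm_apply p, ← g.apply_symm_apply q, hg]
  rfl

theorem ω_self (p : X × X) : S.ω p p = 0 := by rw [Symm.ω, S.symm p.1]; exact sub_self _

theorem ω_skew (p q : X × X) : S.ω q p = -S.ω p q := by
  rw [Symm.ω, Symm.ω, S.symm q.1, S.symm q.2]; ring

theorem ω_nd {p : X × X} (h : ∀ q, S.ω p q = 0) : p = 0 := by
  refine Prod.ext (S.nd _ fun y => ?_) (S.nd _ fun y => ?_)
  · simpa [Symm.ω] using h (0, y)
  · simpa [Symm.ω] using h (y, 0)

end Symm

end Cfsg.Agent.H57.TensorTwo
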