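import Cfsg.Agent.H57.TensorTwo.Main
import Cfsg.Agent.H95.Symp
import Cfsg.Agent.H96.TensorCoords

/-!
The stabiliser of a decomposition `Sp₂ ⊗ O_b`, `b ≥ 4`, not of plus type when `b = 4`, in odd characteristic is
maximal in the symplectic group.
-/

set_option autoImplicit false
open Cfsg

namespace Cfsg.Agent.H57.TensorTwo

open Module Matrix Kronecker Cfsg.Agent.H95 Cfsg.Agent.H96

variable {F : Type*} [Field F] {ι : Type} [Fintype ι] [DecidableEq ι]

/-- A matrix that acts as a Kronecker product is in the stabiliser. -/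
theorem mem_of_action {n₁ n₂ : ℕ} {e : ι ≃ Fin n₁ × Fin n₂} {P g : GL ι F} (A : GL (Fin n₁) F) (B : GL (Fin n₂) F)
    (h : ∀ x : Fin n₁ → Fin n₂ → F, (g : Matrix ι ι F) *ᵥ tensorIso e P x = tensorIso e P
      (fun i => ∑ i', (A : Matrix (Fin n₁) (Fin n₁) F) i i' • ((B : Matrix (Fin n₂) (Fin n₂) F) *ᵥ x i'))) :
    g ∈ Cfsg.Geo.tensorProductSubgroup n₁ n₂ e P := by
  let K : GL (Fin n₁ × Fin n₂) F :=
    ⟨(A : Matrix (Fin n₁) (Fin n₁) F) ⊗ₖ (B : Matrix (Fin n₂) (Fin n₂) F),
      ((A⁻¹ : GL (Fin n₁) F) : Matrix (Fin n₁) (Fin n₁) F) ⊗ₖ ((B⁻¹ : GL (Fin n₂) F) : Matrix (Fin n₂) (Fin n₂) F),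
      by rw [← Matrix.mul_kronecker_mul, Units.mul_inv, Units.mul_inv, Matrix.one_kronecker_one],
      by rw [← Matrix.mul_kronecker_mul, Units.inv_mul, Units.inv_mul, Matrix.one_kronecker_one]⟩
  let g₀ : GL ι F := (MulAut.conj P).toMonoidHom ((Cfsg.Geo.glReindex e.symm).toMonoidHom K)
  suffices g = g₀ by rw [this]; exact ⟨_, ⟨K, ⟨A, B, rfl⟩, rfl⟩, rfl⟩
  refine gl_ext fun v => ?_
  obtain ⟨m, rfl⟩ := (tensorIso e P).surjective v
  rw [h]
  have hP : ((P⁻¹ : GL ι F) : Matrix ι ι F) * (P : Matrix ι ι F) = 1 := by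
    rw [← Units.val_mul, inv_mul_cancel, Units.val_one]
  show _ = ((P : Matrix ι ι F) * Matrix.reindex e.symm e.symm
    ((A : Matrix (Fin n₁) (Fin n₁) F) ⊗ₖ (B : Matrix (Fin n₂) (Fin n₂) F)) *
      ((P⁻¹ : GL ι F) : Matrix ι ι F)) *ᵥ _
  rw [tensorIso_apply, tensorIso_apply, Matrix.mulVec_mulVec, Matrix.mul_assoc, hP, Matrix.mul_one,
    ← Matrix.mulVec_mulVec]
  congr 1
  funext i
  simp only [Matrix.mulVec, dotProduct, Matrix.reindex_apply, Matrix.submatrix_apply, Function.comp_apply,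
    Equiv.symm_symm, Finset.sum_apply, Pi.smul_apply, smul_eq_mul]
  rw [Equiv.sum_comp e (fun p => ((A : Matrix (Fin n₁) (Fin n₁) F) ⊗ₖ (B : Matrix (Fin n₂) (Fin n₂) F)) (e i) p *
    m p.1 p.2), Fintype.sum_prod_type]
  refine Finset.sum_congr rfl fun k _ => ?_
  rw [Finset.mul_sum]
  refine Finset.sum_congr rfl fun j _ => ?_
  rw [Matrix.kroneckerMap_apply]
  ring

/-- Matrices as automorphisms of `X × X` along an isomorphism. -/
noncomputable def transfer {V : Type*} [AddCommGroup V] [Module F V] (φ : V ≃ₗ[F] (ι → F)) :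
    GL ι F →* (V ≃ₗ[F] V) where
  toFun g := (φ.trans (LinearMap.GeneralLinearGroup.generalLinearEquiv F (ι → F)
    (Matrix.GeneralLinearGroup.toLin g))).trans φ.symm
  map_one' := by ext p; simp
  map_mul' g h := by
    ext p
    simp [LinearEquiv.mul_apply]

theorem apply_transfer {V : Type*} [AddCommGroup V] [Module F V] (φ : V ≃ₗ[F] (ι → F)) (g : GL ι F) (p : V) :
    φ (transfer φ g p) = (g : Matrix ι ι F) *ᵥ φ p :=
  φ.apply_symm_apply _

theorem transfer_surjective {V : Type*} [AddCommGroup V] [Module F V] (φ : V ≃ₗ[F] (ι → F)) (h : V ≃ₗ[F] V) :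
    ∃ g, transfer φ g = h := by
  refine ⟨Matrix.GeneralLinearGroup.toLin.symm
    ((LinearMap.GeneralLinearGroup.generalLinearEquiv F (ι → F)).symm ((φ.symm.trans h).trans φ)), ?_⟩
  ext p
  simp [transfer]

/-- The stabiliser of a decomposition `Sp₂ ⊗ O_b` is maximal, `b ≥ 4` and no totally singular subspace of codimension two. -/
theorem maximal [Fintype F] {f : (ι → F) → (ι → F) → F} (hf : Geo.IsSymplecticForm f)
    (hodd : Odd (Fintype.card F)) {b : ℕ} (hb : 4 ≤ b) (e : ι ≃ Fin 2 × Fin b) (P : GL ι F)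
    (f₁ : (Fin 2 → F) → (Fin 2 → F) → F) (f₂ : (Fin b → F) → (Fin b → F) → F) (hf₁ : Geo.IsSymplecticForm f₁)
    (hf₂ : Geo.IsSymmetricForm f₂) (hT : Geo.IsTensorFormStructure id f f₁ f₂ e P)
    (haniso : ∀ W : Submodule F (Fin b → F), b ≤ finrank F W + 2 → ∃ x ∈ W, f₂ x x ≠ 0) :
    Geo.IsMaximalIn (isoGrp f) (Geo.tensorProductSubgroup 2 b e P ⊓ isoGrp f) := by
  classical
  have htwo : (2 : F) ≠ 0 := fun h => by
    haveI : CharP F 2 := CharTwo.of_one_ne_zero_of_two_eq_zero one_ne_zero h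
    have h2 := FiniteField.even_card_of_char_two (F := F) ((CharP.eq F (ringChar.charP F) inferInstance))
    rw [Nat.odd_iff] at hodd
    omega
  let B : (Fin b → F) →ₗ[F] (Fin b → F) →ₗ[F] F := LinearMap.mk₂ F f₂ hf₂.bilinear.add_left
    hf₂.bilinear.smul_left hf₂.bilinear.add_right (fun c v x => hf₂.bilinear.smul_right c v x)
  let S : Symm F (Fin b → F) :=
    { β := B
      symm := hf₂.symm
      nd := fun x hx => by
        by_contra h
        obtain ⟨y, hy⟩ := (hf₂.nondegenerate x h).2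
        exact hy (hx y)
      two := htwo
      dim := by rw [finrank_fin_fun]; exact hb
      aniso := fun W hW => haniso W (by rwa [finrank_fin_fun] at hW) }
  let φ : ((Fin b → F) × (Fin b → F)) ≃ₗ[F] (ι → F) :=
    (LinearEquiv.piFinTwo F fun _ => Fin b → F).symm.trans (tensorIso e P)
  obtain ⟨c, hc, hpol⟩ := tensor_polar hf₂.bilinear hT
  set k := c * Geo.gramMatrix f₁ 0 1 with hk
  have hφ : ∀ p q, f (φ p) (φ q) = k * S.ω p q := by
    intro p q
    have h00 : Geo.gramMatrix f₁ 0 0 = 0 := hf₁.alternating _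
    have h11 : Geo.gramMatrix f₁ 1 1 = 0 := hf₁.alternating _
    have h10 : Geo.gramMatrix f₁ 1 0 = -Geo.gramMatrix f₁ 0 1 := hf₁.skew _ _
    show f (tensorIso e P _) (tensorIso e P _) = _
    rw [hpol, Fin.sum_univ_two, Fin.sum_univ_two, Fin.sum_univ_two, h00, h11, h10, hk]
    show c * (0 * B p.1 q.1 + Geo.gramMatrix f₁ 0 1 * B p.1 q.2 +
      (-Geo.gramMatrix f₁ 0 1 * B p.2 q.1 + 0 * B p.2 q.2)) = c * Geo.gramMatrix f₁ 0 1 * (B p.1 q.2 - B p.2 q.1)
    ring
  obtain ⟨x, hx⟩ := S.exists_aniso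
  have hx0 : x ≠ 0 := fun h => hx (by simp [h])
  have hk0 : k ≠ 0 := fun h => by
    have hne : φ (x, 0) ≠ 0 := fun h0 => hx0 (congrArg Prod.fst (φ.injective (h0.trans (map_zero φ).symm)))
    obtain ⟨w, hw⟩ := (hf.nondegenerate _ hne).2
    obtain ⟨q, rfl⟩ := φ.surjective w
    rw [hφ, h, zero_mul] at hw
    exact hw rfl
  set Ψ := transfer φ
  have hiso : ∀ g : GL ι F, g ∈ isoGrp f ↔ S.IsIso (Ψ g) := fun g => by
    rw [mem_isoGrp]
    constructor
    · intro h p q
      have h1 := h (φ p) (φ q)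
      rw [← apply_transfer φ, ← apply_transfer φ, hφ, hφ] at h1
      exact mul_left_cancel₀ hk0 h1
    · intro h u v
      obtain ⟨p, rfl⟩ := φ.surjective u
      obtain ⟨q, rfl⟩ := φ.surjective v
      rw [← apply_transfer φ, ← apply_transfer φ, hφ, hφ, h]
  have hrt : ∀ u l, Ψ (rt hf (φ u) l) = S.rt u (l * k) := fun u l => LinearEquiv.ext fun p => by
    refine φ.injective ?_
    rw [apply_transfer, rt_mulVec hf, S.rt_apply, map_add, map_smul, hφ, ← mul_assoc]
  have hdec : ∀ g, g ∈ Geo.tensorProductSubgroup 2 b e P → Dec (Ψ g) := by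
    intro g hg
    obtain ⟨A, N, hAN⟩ := exists_tensor_action hg
    refine ⟨A 0 0, A 0 1, A 1 0, A 1 1, Matrix.mulVecLin (N : Matrix (Fin b) (Fin b) F), fun u v => ?_⟩
    refine φ.injective ?_
    rw [apply_transfer]
    refine (hAN _).trans (congrArg (tensorIso e P) (funext fun i => ?_))
    fin_cases i <;> simp [Fin.sum_univ_two, LinearEquiv.piFinTwo]
  have hmem : ∀ g, Dec (Ψ g) → g ∈ Geo.tensorProductSubgroup 2 b e P := by
    rintro g ⟨a, a', c', d, N, hN⟩
    have hinj := (Ψ g).injective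
    have hdet : a * d - a' * c' ≠ 0 := by
      intro h0
      have key : ∀ α γ : F, a * α + a' * γ = 0 → c' * α + d * γ = 0 → α = 0 ∧ γ = 0 := by
        intro α γ h1 h2
        have h3 : Ψ g (α • x, γ • x) = Ψ g 0 := by
          rw [hN, map_smul, map_smul, smul_smul, smul_smul, smul_smul, smul_smul, ← add_smul, ← add_smul, h1, h2,
            zero_smul, map_zero]
          rfl
        have h4 := hinj h3
        exact ⟨(smul_eq_zero.1 (congrArg Prod.fst h4)).resolve_right hx0,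
          (smul_eq_zero.1 (congrArg Prod.snd h4)).resolve_right hx0⟩
      obtain ⟨ha', ha⟩ := key (-a') a (by ring) (by linear_combination h0)
      obtain ⟨hd, hc'⟩ := key d (-c') (by linear_combination h0) (by ring)
      have h3 : Ψ g (x, 0) = Ψ g 0 := by
        rw [hN, ha, neg_eq_zero.1 ha', neg_eq_zero.1 hc', hd]
        simp
      exact hx0 (congrArg Prod.fst (hinj h3))
    have hNinj : Function.Injective N := (injective_iff_map_eq_zero N).2 fun u hu => by
      have h3 : Ψ g (u, 0) = Ψ g 0 := by rw [hN, hu]; simp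
      exact congrArg Prod.fst (hinj h3)
    have hNu : IsUnit (LinearMap.toMatrix' N) := Matrix.mulVec_injective_iff_isUnit.1 (fun u v h => hNinj (by
      simpa [LinearMap.toMatrix'_mulVec] using h))
    refine mem_of_action (Matrix.GeneralLinearGroup.mkOfDetNeZero !![a, a'; c', d] (by
      rwa [Matrix.det_fin_two_of])) hNu.unit fun m => ?_
    have h1 : tensorIso e P m = φ (m 0, m 1) :=
      congrArg (tensorIso e P) (funext fun i => by fin_cases i <;> rfl)
    rw [h1, ← apply_transfer φ, hN]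
    refine congrArg (tensorIso e P) (funext fun i => ?_)
    fin_cases i <;> simp [Fin.sum_univ_two, LinearEquiv.piFinTwo, LinearMap.toMatrix'_mulVec]
  refine ⟨lt_of_le_of_ne inf_le_right fun h => ?_, fun M h1 h2 => ?_⟩
  · have h' := rt_mem_iso hf (φ (x, 0)) 1
    rw [← h] at h'
    obtain ⟨a, a', c', d, N, hN⟩ := hdec _ h'.1
    rw [hrt, one_mul] at hN
    have hu : ∀ y, a' • N y = -(k * S.β y x) • x ∧ d • N y = y := fun y => by
      have h2 := hN 0 y
      rw [S.rt_apply] at h2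
      simp [Symm.ω] at h2
      exact ⟨by rw [← h2.1]; module, h2.2.symm⟩
    haveI := S.finite
    obtain ⟨y, hy, hy0⟩ := Submodule.exists_mem_ne_zero_of_ne_bot
      (LinearMap.ker_ne_bot_of_finrank_lt (f := S.β.flip x) (by rw [finrank_self]; have := S.dim; omega))
    have ha' : a' = 0 := by
      have h2 := (hu y).1
      rw [show S.β y x = 0 from hy, mul_zero, neg_zero, zero_smul] at h2
      refine (smul_eq_zero.1 h2).resolve_right fun h3 => hy0 ?_
      rw [← (hu y).2, h3, smul_zero]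
    have h2 := (hu x).1
    rw [ha', zero_smul, eq_comm, smul_eq_zero, neg_eq_zero] at h2
    exact (mul_ne_zero hk0 hx) (h2.resolve_right hx0)
  · by_cases hMN : M ≤ Geo.tensorProductSubgroup 2 b e P
    · exact Or.inl (le_antisymm (le_inf hMN h2) h1)
    refine Or.inr (le_antisymm h2 ?_)
    have hM : S.Over (M.map Ψ) := by
      refine ⟨?_, fun h hh hD => ?_⟩
      · rintro _ ⟨g, hg, rfl⟩
        exact (hiso g).1 (h2 hg)
      · obtain ⟨g, rfl⟩ := transfer_surjective φ h
        exact Subgroup.mem_map_of_mem _ (h1 ⟨hmem g hD, (hiso g).2 hh⟩)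
    rcases Symm.dichotomy hM with h | h
    · obtain ⟨g, hg, hgN⟩ := SetLike.not_le_iff_exists.1 hMN
      exact absurd (hmem g (h _ (Subgroup.mem_map_of_mem _ hg))) hgN
    refine iso_le_of_roots hf fun v l => ?_
    obtain ⟨u, rfl⟩ := φ.surjective v
    obtain ⟨g, hg, hgu⟩ := h u (l * k)
    suffices rt hf (φ u) l = g by rw [this]; exact hg
    refine gl_ext fun w => ?_
    obtain ⟨p, rfl⟩ := φ.surjective w
    rw [← apply_transfer φ, ← apply_transfer φ, hrt, hgu]

end Cfsg.Agent.H57.TensorTwo
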